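import Cfsg.Agent.CsPSL.Lift
import Mathlib.GroupTheory.Abelianization.Defs
import Mathlib.GroupTheory.Transfer

/-!
General lemmas: primes common to two isolated centralisers, and splitting off the centre.
-/

set_option autoImplicit false

namespace Cfsg.Agent.CsPSL

open Subgroup
open scoped Classical commutatorElement

variable {G : Type*} [Group G] [Finite G]

theorem prime_eq_of_pgroup {x : G} {r s : ℕ} (hr : r.Prime) (hs : s.Prime)
    (hp : ∀ y ∈ cent x, ∃ k, y ^ (r ^ k) ∈ Subgroup.center G)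
    (h : s ∣ (Subgroup.center G).relIndex (cent x)) : s = r := by
  haveI : Fact s.Prime := ⟨hs⟩
  obtain ⟨y, hy, hyz, j, hj⟩ := exists_pElement_not_mem h
  obtain ⟨k, hk⟩ := hp y hy
  by_contra hne
  apply hyz
  have h1 : orderOf (QuotientGroup.mk y : G ⧸ Subgroup.center G) ∣ r ^ k :=
    orderOf_dvd_of_pow_eq_one (by rw [← QuotientGroup.mk_pow, (QuotientGroup.eq_one_iff _).2 hk])
  have h2 : orderOf (QuotientGroup.mk y : G ⧸ Subgroup.center G) ∣ s ^ j :=
    orderOf_dvd_of_pow_eq_one (by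
      rw [← QuotientGroup.mk_pow, ← hj, pow_orderOf_eq_one, QuotientGroup.mk_one])
  exact (QuotientGroup.eq_one_iff y).1 (orderOf_eq_one_iff.1 (Nat.eq_one_of_dvd_coprimes
    (Nat.Coprime.pow k j ((Nat.coprime_primes hr hs).2 fun e => hne e.symm)) h1 h2))

/-- Two isolated centralisers of different index have no common prime in their orders modulo
the centre, unless one of the orders is a power of it. -/
theorem false_of_common_prime {x₁ x₂ : G} (h₁ : Isolated x₁) (h₂ : Isolated x₂)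
    (hne : (cent x₁).index ≠ (cent x₂).index) {r : ℕ} [Fact r.Prime]
    (hw : ∃ w : G, w ∉ Subgroup.center G ∧ ¬ r ∣ (cent w).index)
    (hr1 : r ∣ (Subgroup.center G).relIndex (cent x₁))
    (hr2 : r ∣ (Subgroup.center G).relIndex (cent x₂))
    {s : ℕ} (hs : s.Prime) (hsr : s ≠ r) (hs1 : s ∣ (Subgroup.center G).relIndex (cent x₁)) :
    False := by
  have hr : r.Prime := Fact.out
  have hab : ∀ a ∈ cent x₁, ∀ b ∈ cent x₁, a * b = b * a := by
    obtain ⟨r₁, y, hr₁, hy, hye, hyi⟩ := h₁.exists_prime_power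
    rcases hyi.comm_or_pgroup hr₁ hy with hab | hp
    · rwa [hye] at hab
    · rw [hye] at hp
      exact absurd ((prime_eq_of_pgroup hr₁ hs hp hs1).trans
        (prime_eq_of_pgroup hr₁ hr hp hr1).symm) hsr
  refine no_common_prime h₁ h₂ hab hne hw hr1 ?_
  obtain ⟨r₂, y, hr₂, hy, hye, hyi⟩ := h₂.exists_prime_power
  rcases hyi.comm_or_pgroup hr₂ hy with hab | hp
  · obtain ⟨b, hb, hbz, hk⟩ := exists_pElement_not_mem hr2
    refine ⟨b, hbz, hk, ?_⟩
    rw [h₂.2 b hbz (Or.inr fun a ha => mem_cent.2 (hab a (hye ▸ ha) b (hye ▸ hb)))]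
  · rw [hye] at hp
    obtain rfl := prime_eq_of_pgroup hr₂ hr hp hr2
    exact ⟨y, hyi.1, hy, by rw [hye]⟩

theorem card_quotient_eq (g : G) :
    (Subgroup.center G).relIndex (cent g) * (cent g).index =
      Nat.card (G ⧸ Subgroup.center G) := by
  rw [Subgroup.relIndex_mul_index (center_le_cent g)]
  rfl

theorem one_lt_relIndex {g : G} (hg : g ∉ Subgroup.center G) :
    1 < (Subgroup.center G).relIndex (cent g) := by
  have h0 : (Subgroup.center G).relIndex (cent g) ≠ 0 := fun h => by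
    have h1 := card_center_mul_relIndex g
    rw [h, mul_zero] at h1
    exact Nat.card_pos.ne' h1.symm
  have h1 : (Subgroup.center G).relIndex (cent g) ≠ 1 := fun h =>
    hg (Subgroup.relIndex_eq_one.1 h (self_mem_cent g))
  omega

theorem ord_mk_eq_relIndex {g : G} (h : bar g = cent g) :
    ord (QuotientGroup.mk g : G ⧸ Subgroup.center G) = (Subgroup.center G).relIndex (cent g) := by
  have h1 := card_bar g
  rw [h, show Nat.card ↥(cent g) = ord g from rfl, ← card_center_mul_relIndex, mul_comm] at h1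
  exact (Nat.eq_of_mul_eq_mul_right Nat.card_pos h1).symm

theorem mk_ne_one {g : G} (hg : g ∉ Subgroup.center G) :
    (QuotientGroup.mk g : G ⧸ Subgroup.center G) ≠ 1 := fun h => hg ((QuotientGroup.eq_one_iff g).1 h)

/-- Central elements of the derived subgroup against a subgroup of finite index. -/
theorem pow_index_eq_one {L : Subgroup G} (hZL : Subgroup.center G ≤ L)
    (hL : ∀ z ∈ Subgroup.center G, z ∈ ⁅L, L⁆ → z = 1) {z : G} (hz : z ∈ Subgroup.center G)
    (hz' : z ∈ commutator G) : z ^ L.index = 1 := by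
  refine hL _ (pow_mem hz _) ?_
  have key : ∀ (k : ℕ) (g₀ : G), g₀⁻¹ * z ^ k * g₀ ∈ L → g₀⁻¹ * z ^ k * g₀ = z ^ k := fun k g₀ _ => by
    rw [mul_assoc, ← Subgroup.mem_center_iff.1 (pow_mem hz k) g₀, inv_mul_cancel_left]
  have h1 : MonoidHom.transfer (Abelianization.of (G := ↥L)) z = 1 :=
    Abelianization.commutator_subset_ker _ hz'
  rw [MonoidHom.transfer_eq_pow _ z key, ← MonoidHom.mem_ker, Abelianization.ker_of] at h1
  have h2 := Subgroup.mem_map_of_mem L.subtype h1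
  rwa [Subgroup.map_subtype_commutator] at h2

/-- If commuting modulo the centre is commuting, the preimage of an abelian group is abelian. -/
theorem commutator_comap_eq_bot (hbar : ∀ g : G, bar g = cent g)
    {H : Subgroup (G ⧸ Subgroup.center G)} (hH : ∀ a ∈ H, ∀ b ∈ H, a * b = b * a) :
    ⁅H.comap (QuotientGroup.mk' (Subgroup.center G)),
      H.comap (QuotientGroup.mk' (Subgroup.center G))⁆ = ⊥ := by
  rw [Subgroup.commutator_eq_bot_iff_le_centralizer]
  intro x hx
  rw [Subgroup.mem_centralizer_iff]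
  intro y hy
  have : x ∈ bar y := mem_cent.2 (hH _ hx _ hy)
  rw [hbar] at this
  exact (mem_cent.1 this).symm

/-- A preimage of a group with an abelian subgroup of index two. -/
theorem inf_commutator_comap (hbar : ∀ g : G, bar g = cent g)
    {A H : Subgroup (G ⧸ Subgroup.center G)} {s : G} (hA : ∀ a ∈ A, ∀ b ∈ A, a * b = b * a)
    (hs : ∀ a ∈ A, QuotientGroup.mk s * a * (QuotientGroup.mk s)⁻¹ ∈ A)
    (hcov : ∀ h ∈ H, h ∈ A ∨ h * (QuotientGroup.mk s)⁻¹ ∈ A) :
    ∀ z ∈ Subgroup.center G, z ∈ ⁅H.comap (QuotientGroup.mk' (Subgroup.center G)),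
      H.comap (QuotientGroup.mk' (Subgroup.center G))⁆ → z = 1 := by
  set L := H.comap (QuotientGroup.mk' (Subgroup.center G))
  set B := A.comap (QuotientGroup.mk' (Subgroup.center G)) with hB
  have hab : ∀ a ∈ B, ∀ b ∈ B, a * b = b * a := fun a ha b hb => by
    have : a ∈ bar b := mem_cent.2 (hA _ ha _ hb)
    rw [hbar] at this
    exact mem_cent.1 this
  have hsB : ∀ a ∈ B, s * a * s⁻¹ ∈ B := fun a ha => by
    have h1 := hs _ ha
    exact h1
  let φ : ↥B →* G :=
    { toFun := fun a => s * a * s⁻¹ * (a : G)⁻¹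
      map_one' := by simp
      map_mul' := fun a b => by
        have h1 := hab _ (hsB b b.2) _ (inv_mem a.2)
        calc s * ((a : G) * b) * s⁻¹ * ((a : G) * b)⁻¹
            = s * a * s⁻¹ * ((s * b * s⁻¹) * ((b : G)⁻¹ * (a : G)⁻¹)) := by group
          _ = s * a * s⁻¹ * ((s * b * s⁻¹) * ((a : G)⁻¹ * (b : G)⁻¹)) := by
            rw [hab _ (inv_mem b.2) _ (inv_mem a.2)]
          _ = s * a * s⁻¹ * (((a : G)⁻¹ * (s * b * s⁻¹)) * (b : G)⁻¹) := by rw [← h1]; group
          _ = _ := by group }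
  have hcov' : ∀ x ∈ L, x ∈ B ∨ ∃ a ∈ B, x = a * s := fun x hx => by
    rcases hcov _ hx with h | h
    · exact Or.inl h
    · exact Or.inr ⟨x * s⁻¹, h, by simp⟩
  have hgen : ∀ a : ↥B, φ a = s * a * s⁻¹ * (a : G)⁻¹ := fun a => rfl
  have hle : ⁅L, L⁆ ≤ φ.range := by
    rw [Subgroup.commutator_le]
    intro x hx y hy
    have key : ∀ a ∈ B, ∀ b ∈ B, ⁅a, b * s⁆ = s * a⁻¹ * s⁻¹ * a⁻¹⁻¹ := fun a ha b hb => by
      rw [commutatorElement_def]
      calc a * (b * s) * a⁻¹ * (b * s)⁻¹ = (a * b) * (s * a⁻¹ * s⁻¹) * b⁻¹ := by group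
        _ = (b * a) * (s * a⁻¹ * s⁻¹) * b⁻¹ := by rw [hab a ha b hb]
        _ = b * (a * (s * a⁻¹ * s⁻¹)) * b⁻¹ := by group
        _ = (a * (s * a⁻¹ * s⁻¹)) * b * b⁻¹ := by
          rw [hab b hb _ (mul_mem ha (hsB _ (inv_mem ha)))]
        _ = a * (s * a⁻¹ * s⁻¹) := by group
        _ = (s * a⁻¹ * s⁻¹) * a := hab a ha _ (hsB _ (inv_mem ha))
        _ = _ := by group
    rcases hcov' x hx with hxB | ⟨a, ha, rfl⟩ <;> rcases hcov' y hy with hyB | ⟨b, hb, rfl⟩
    · rw [commutatorElement_eq_one_iff_mul_comm.2 (hab x hxB y hyB)]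
      exact one_mem _
    · rw [key x hxB b hb]
      exact ⟨⟨x⁻¹, inv_mem hxB⟩, rfl⟩
    · rw [← commutatorElement_inv, key y hyB a ha]
      exact inv_mem ⟨⟨y⁻¹, inv_mem hyB⟩, rfl⟩
    · refine ⟨⟨b * a⁻¹, mul_mem hb (inv_mem ha)⟩, ?_⟩
      rw [hgen, commutatorElement_def]
      show s * (b * a⁻¹) * s⁻¹ * (b * a⁻¹)⁻¹ = a * s * (b * s) * (a * s)⁻¹ * (b * s)⁻¹
      have h1 : s * (b * a⁻¹) * s⁻¹ ∈ B := hsB _ (mul_mem hb (inv_mem ha))
      calc s * (b * a⁻¹) * s⁻¹ * (b * a⁻¹)⁻¹ = (s * (b * a⁻¹) * s⁻¹ * a) * b⁻¹ := by group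
        _ = (a * (s * (b * a⁻¹) * s⁻¹)) * b⁻¹ := by rw [hab _ h1 a ha]
        _ = _ := by group
  intro z hz hzc
  obtain ⟨a, rfl⟩ := hle hzc
  rw [hgen] at hz ⊢
  have : s ∈ bar (a : G) := mem_cent.2 (by
    show (QuotientGroup.mk s : G ⧸ Subgroup.center G) * QuotientGroup.mk (a : G) =
      QuotientGroup.mk (a : G) * QuotientGroup.mk s
    rw [← QuotientGroup.mk_mul, ← QuotientGroup.mk_mul]
    have h1 := (QuotientGroup.eq_one_iff _).2 hz
    rw [show s * (a : G) * s⁻¹ * (a : G)⁻¹ = (s * a) * ((a : G) * s)⁻¹ by group,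
      QuotientGroup.mk_mul, QuotientGroup.mk_inv, mul_inv_eq_one] at h1
    exact h1)
  rw [hbar] at this
  rw [mem_cent.1 this]
  group

/-- Splitting off the centre when it meets the derived subgroup trivially. -/
theorem exists_split (hperf : commutator (G ⧸ Subgroup.center G) = ⊤)
    (h : ∀ z ∈ Subgroup.center G, z ∈ commutator G → z = 1) :
    ∃ N A : Subgroup G, N.Normal ∧ A ≤ Subgroup.center G ∧ N ⊓ A = ⊥ ∧ N ⊔ A = ⊤ ∧
      Nonempty (N ≃* G ⧸ Subgroup.center G) := by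
  set π := QuotientGroup.mk' (Subgroup.center G) with hπ
  have hmap : (commutator G).map π = ⊤ := by
    rw [commutator_def, Subgroup.map_commutator, Subgroup.map_top_of_surjective _
      (QuotientGroup.mk'_surjective _), ← commutator_def, hperf]
  refine ⟨commutator G, Subgroup.center G, inferInstance, le_rfl, ?_, ?_, ?_⟩
  · rw [Subgroup.eq_bot_iff_forall]
    exact fun z hz => h z hz.2 hz.1
  · have := congrArg (Subgroup.comap π) hmap
    rwa [Subgroup.comap_map_eq, Subgroup.comap_top, QuotientGroup.ker_mk'] at this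
  · refine ⟨MulEquiv.ofBijective (π.comp (commutator G).subtype) ⟨?_, fun y => ?_⟩⟩
    · rw [injective_iff_map_eq_one]
      exact fun a ha => Subtype.ext (h a ((QuotientGroup.eq_one_iff (a : G)).1 ha) a.2)
    · obtain ⟨x, hx, rfl⟩ := (hmap ▸ Subgroup.mem_top y : y ∈ (commutator G).map π)
      exact ⟨⟨x, hx⟩, rfl⟩

end Cfsg.Agent.CsPSL
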