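import Cfsg.Agent.Lib.ClassSize
import Mathlib.GroupTheory.Sylow

/-!
Elementary counting lemmas for groups with few centraliser orders.
-/

set_option autoImplicit false

namespace Cfsg.Agent.CsPSL

open Subgroup
open scoped Classical

variable {G : Type*} [Group G]

/-- The centraliser of an element. -/
abbrev cent (g : G) : Subgroup G := Subgroup.centralizer ({g} : Set G)

/-- The order of the centraliser of an element. -/
noncomputable abbrev ord (g : G) : ℕ := Nat.card ↥(cent g)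

theorem mem_cent {g x : G} : x ∈ cent g ↔ x * g = g * x := Subgroup.mem_centralizer_singleton_iff

theorem self_mem_cent (g : G) : g ∈ cent g := mem_cent.2 rfl

theorem mem_cent_symm {g x : G} (h : x ∈ cent g) : g ∈ cent x := mem_cent.2 (mem_cent.1 h).symm

theorem cent_le_cent_pow (g : G) (k : ℕ) : cent g ≤ cent (g ^ k) := fun x hx =>
  mem_cent.2 ((show Commute x g from mem_cent.1 hx).pow_right k).eq

theorem mem_center_iff_cent {g : G} : g ∈ Subgroup.center G ↔ cent g = ⊤ := by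
  rw [Subgroup.mem_center_iff, Subgroup.eq_top_iff']
  exact forall_congr' fun x => mem_cent.symm

theorem center_le_cent (g : G) : Subgroup.center G ≤ cent g := fun _ hx =>
  mem_cent.2 (Subgroup.mem_center_iff.1 hx g).symm

theorem cent_conj (x g : G) : cent (x * g * x⁻¹) = (cent g).map (MulAut.conj x).toMonoidHom :=
  ClassSize.centralizer_conj x g

theorem conj_mem_cent {x g y : G} (h : y ∈ cent g) : x * y * x⁻¹ ∈ cent (x * g * x⁻¹) := by
  rw [cent_conj]
  exact ⟨y, h, rfl⟩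

theorem ord_conj (x g : G) : ord (x * g * x⁻¹) = ord g := by
  unfold ord
  rw [cent_conj, Subgroup.card_map_of_injective (MulEquiv.injective _)]

variable [Finite G]

theorem orderOf_dvd_ord (g : G) : orderOf g ∣ ord g :=
  Subgroup.orderOf_dvd_natCard _ (self_mem_cent g)

theorem ord_mul_index (g : G) : ord g * (cent g).index = Nat.card G := Subgroup.card_mul_index _

/-- Splitting an element into its `p`-part and the rest. -/
theorem exists_p_split (p : ℕ) (hp : p.Prime) (g : G) :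
    ∃ a b : G, a ∈ zpowers g ∧ b ∈ zpowers g ∧ a * b = g ∧
      (∃ k, orderOf a = p ^ k) ∧ ¬ p ∣ orderOf b := by
  obtain ⟨k, m, hm, hgm⟩ := Nat.exists_eq_pow_mul_and_not_dvd (orderOf_pos g).ne' p hp.ne_one
  have hco : Nat.Coprime m (p ^ k) := (hp.coprime_iff_not_dvd.2 hm).symm.pow_right k
  have hint : (Nat.gcd m (p ^ k) : ℤ) = m * Nat.gcdA m (p ^ k) + (p ^ k : ℕ) * Nat.gcdB m (p ^ k) :=
    Nat.gcd_eq_gcd_ab _ _
  rw [hco.gcd_eq_one] at hint
  set u := Nat.gcdA m (p ^ k)
  set v := Nat.gcdB m (p ^ k)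
  refine ⟨g ^ ((m : ℤ) * u), g ^ (((p ^ k : ℕ) : ℤ) * v), zpow_mem (mem_zpowers g) _,
    zpow_mem (mem_zpowers g) _, ?_, ?_, ?_⟩
  · rw [← zpow_add, ← hint]; simp
  · have h : (g ^ ((m : ℤ) * u)) ^ (p ^ k) = 1 := by
      rw [← zpow_natCast (g ^ ((m : ℤ) * u)), ← zpow_mul,
        show (m : ℤ) * u * ((p ^ k : ℕ) : ℤ) = ((orderOf g : ℕ) : ℤ) * u by rw [hgm]; push_cast; ring,
        zpow_mul, zpow_natCast, pow_orderOf_eq_one, one_zpow]
    obtain ⟨j, -, hj⟩ := (Nat.dvd_prime_pow hp).1 (orderOf_dvd_of_pow_eq_one h)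
    exact ⟨j, hj⟩
  · have h : (g ^ (((p ^ k : ℕ) : ℤ) * v)) ^ m = 1 := by
      rw [← zpow_natCast (g ^ (((p ^ k : ℕ) : ℤ) * v)), ← zpow_mul,
        show ((p ^ k : ℕ) : ℤ) * v * (m : ℤ) = ((orderOf g : ℕ) : ℤ) * v by rw [hgm]; push_cast; ring,
        zpow_mul, zpow_natCast, pow_orderOf_eq_one, one_zpow]
    exact fun hd => hm (hd.trans (orderOf_dvd_of_pow_eq_one h))

theorem cent_le_of_mem_zpowers {g h : G} (hh : h ∈ zpowers g) : cent g ≤ cent h :=
  ClassSize.centralizer_le_of_mem_zpowers hh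

/-- The centraliser of a product of commuting elements of coprime orders. -/
theorem cent_mul_eq_inf {a b : G} (hab : Commute a b) (hco : Nat.Coprime (orderOf a) (orderOf b)) :
    cent (a * b) = cent a ⊓ cent b := by
  have ha : a ∈ zpowers (a * b) := by
    obtain ⟨k, hk⟩ := exists_pow_eq_self_of_coprime (x := a) (n := orderOf b) hco.symm
    refine ⟨((orderOf b * k : ℕ) : ℤ), ?_⟩
    show (a * b) ^ ((orderOf b * k : ℕ) : ℤ) = a
    rw [zpow_natCast, hab.mul_pow, pow_mul b, pow_orderOf_eq_one, one_pow, mul_one, pow_mul, hk]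
  have hb : b ∈ zpowers (a * b) := by
    have := mul_mem (inv_mem ha) (mem_zpowers (a * b))
    rwa [inv_mul_cancel_left] at this
  refine le_antisymm (le_inf (cent_le_of_mem_zpowers ha) (cent_le_of_mem_zpowers hb)) fun x hx => ?_
  exact mem_cent.2 ((show Commute x a from mem_cent.1 hx.1).mul_right
    (show Commute x b from mem_cent.1 hx.2)).eq

theorem isConj_of_odd_orderOf_mul {u v : G} (hu : u * u = 1) (hv : v * v = 1)
    (hodd : Odd (orderOf (u * v))) : IsConj u v := by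
  obtain ⟨k, hk⟩ := hodd
  set g := u * v with hg
  have hug : u * g * u⁻¹ = g⁻¹ := by
    rw [hg, inv_eq_of_mul_eq_one_right hu, mul_inv_rev, inv_eq_of_mul_eq_one_right hu,
      inv_eq_of_mul_eq_one_right hv, ← mul_assoc u u v, hu, one_mul]
  have hgk : g ^ (2 * k + 1) = 1 := hk ▸ pow_orderOf_eq_one g
  have h1 : u * g ^ k * u⁻¹ = (g ^ k)⁻¹ := by rw [← conj_pow, hug, inv_pow]
  have h2 : v = u⁻¹ * g := by rw [hg, ← mul_assoc, inv_mul_cancel, one_mul]
  refine isConj_iff.2 ⟨g ^ k, ?_⟩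
  have hu' : u⁻¹ = u := inv_eq_of_mul_eq_one_right hu
  rw [h2, hu']
  calc g ^ k * u * (g ^ k)⁻¹ = g ^ k * u * (u * g ^ k * u⁻¹) := by rw [h1]
    _ = g ^ k * (u * u) * g ^ k * u⁻¹ := by group
    _ = g ^ k * g ^ k * u⁻¹ := by rw [hu, mul_one]
    _ = g ^ (2 * k) * u⁻¹ := by rw [← pow_add, two_mul]
    _ = g⁻¹ * u⁻¹ := by
      rw [eq_inv_of_mul_eq_one_left (show g ^ (2 * k) * g = 1 by rw [← pow_succ]; exact hgk)]
    _ = u * g * u⁻¹ * u⁻¹ := by rw [hug]
    _ = u * g := by rw [hu', mul_assoc (u * g), hu, mul_one]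

/-- A conjugation-invariant set whose members have class sizes divisible by `d` has size divisible
by `d`. -/
theorem dvd_ncard_of_conj_invariant {d : ℕ} (s : Set G) :
    (∀ g ∈ s, ∀ x : G, x * g * x⁻¹ ∈ s) → (∀ g ∈ s, d ∣ (cent g).index) → d ∣ s.ncard := by
  induction h : s.ncard using Nat.strong_induction_on generalizing s with
  | _ N ih =>
    intro hinv hd
    rcases s.eq_empty_or_nonempty with rfl | ⟨g, hg⟩
    · rw [Set.ncard_empty] at h; subst h; exact dvd_zero _
    set O : Set G := Set.range fun x : G => x * g * x⁻¹ with hO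
    have hOs : O ⊆ s := by rintro _ ⟨x, rfl⟩; exact hinv g hg x
    have hOc : d ∣ O.ncard := by rw [hO, ClassSize.ncard_range_conj]; exact hd g hg
    have hsum : (s \ O).ncard + O.ncard = N := by
      rw [Set.ncard_sdiff_add_ncard_of_subset hOs]; exact h
    have hpos : 0 < O.ncard := (Set.ncard_pos (Set.toFinite _)).2 ⟨_, 1, rfl⟩
    rw [← hsum]
    refine dvd_add (ih (s \ O).ncard (by omega) (s \ O) rfl ?_ fun y hy => hd y hy.1) hOc
    rintro y ⟨hy, hyO⟩ x
    refine ⟨hinv y hy x, ?_⟩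
    rintro ⟨z, hz⟩
    refine hyO ⟨x⁻¹ * z, ?_⟩
    have := congrArg (fun w => x⁻¹ * w * x) hz
    simpa [mul_assoc] using this

/-- Counting a set by the fibres of a map into subgroups. -/
theorem ncard_eq_mul_of_fibers {β : Type*} [Finite β] (s : Set G) (t : Set β) (Φ : G → β) (k : ℕ)
    (hmaps : ∀ g ∈ s, Φ g ∈ t) (hfib : ∀ b ∈ t, {g ∈ s | Φ g = b}.ncard = k) :
    s.ncard = t.ncard * k := by
  haveI := Fintype.ofFinite G
  haveI := Fintype.ofFinite β
  rw [Set.ncard_eq_toFinset_card', Set.ncard_eq_toFinset_card',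
    Finset.card_eq_sum_card_fiberwise (f := Φ) (t := t.toFinset)
      (fun g hg => by simpa using hmaps g (by simpa using hg)),
    Finset.sum_const_nat (m := k)]
  intro b hb
  rw [← hfib b (by simpa using hb), Set.ncard_eq_toFinset_card']
  congr 1
  ext g
  simp

/-- An element centralised by a Sylow subgroup. -/
theorem exists_sylow_le_of_not_dvd {p : ℕ} [Fact p.Prime] (C : Subgroup G) (h : ¬ p ∣ C.index) :
    ∃ P : Sylow p G, (P : Subgroup G) ≤ C := by
  obtain ⟨Q⟩ : Nonempty (Sylow p C) := inferInstance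
  have hQ : IsPGroup p ((Q : Subgroup C).map C.subtype) := Q.isPGroup'.map _
  refine ⟨hQ.toSylow ?_, Subgroup.map_subtype_le _⟩
  rw [Subgroup.index_map_subtype]
  exact fun hd => ((Fact.out : p.Prime).dvd_mul.mp hd).elim Q.not_dvd_index h

/-- Every conjugate of a Sylow subgroup. -/
theorem exists_conj_le_of_sylow {p : ℕ} [Fact p.Prime] {C : Subgroup G} (hC : ¬ p ∣ C.index)
    {H : Subgroup G} (hH : IsPGroup p H) : ∃ x : G, ∀ h ∈ H, x * h * x⁻¹ ∈ C := by
  obtain ⟨P, hP⟩ := exists_sylow_le_of_not_dvd C hC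
  obtain ⟨Q, hQ⟩ := hH.exists_le_sylow
  obtain ⟨x, hx⟩ := MulAction.exists_smul_eq G Q P
  refine ⟨x, fun h hh => hP ?_⟩
  rw [← hx, Sylow.coe_subgroup_smul, Subgroup.mem_pointwise_smul_iff_inv_smul_mem, ← map_inv,
    MulAut.smul_def, MulAut.conj_apply, inv_inv]
  simpa [mul_assoc] using hQ hh

end Cfsg.Agent.CsPSL
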