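import Cfsg.Agent.CsPSL.Basic
import Mathlib.GroupTheory.QuotientGroup.Basic

/-!
Centralisers of maximal and minimal class size, and centralisers modulo the centre.
-/

set_option autoImplicit false

namespace Cfsg.Agent.CsPSL

open Subgroup
open scoped Classical

variable {G : Type*} [Group G]

/-- A centraliser which is both minimal and maximal among proper centralisers. -/
def Isolated (x : G) : Prop :=
  x ∉ Subgroup.center G ∧ ∀ g : G, g ∉ Subgroup.center G →
    (cent g ≤ cent x ∨ cent x ≤ cent g) → cent g = cent x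

variable [Finite G]

theorem eq_of_le_of_index_eq {H K : Subgroup G} (h : H ≤ K) (he : H.index = K.index) : H = K := by
  refine eq_of_le_of_card_ge h ?_
  have h1 := Subgroup.card_mul_index H
  have h2 := Subgroup.card_mul_index K
  rw [he, ← h2] at h1
  exact (Nat.eq_of_mul_eq_mul_right (Nat.pos_of_ne_zero Subgroup.index_ne_zero_of_finite) h1).ge

/-- Class sizes which neither properly divide nor are properly divided give isolated elements. -/
theorem isolated_of_index {x : G} (hx : x ∉ Subgroup.center G)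
    (h1 : ∀ g : G, g ∉ Subgroup.center G → (cent x).index ∣ (cent g).index →
      (cent g).index = (cent x).index)
    (h2 : ∀ g : G, g ∉ Subgroup.center G → (cent g).index ∣ (cent x).index →
      (cent g).index = (cent x).index) : Isolated x := by
  refine ⟨hx, fun g hg h => ?_⟩
  rcases h with h | h
  · exact eq_of_le_of_index_eq h (h1 g hg (Subgroup.index_dvd_of_le h))
  · exact (eq_of_le_of_index_eq h (h2 g hg (Subgroup.index_dvd_of_le h)).symm).symm

/-- An isolated element has the centraliser of an element of prime power order. -/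
theorem Isolated.exists_prime_power {x : G} (hx : Isolated x) :
    ∃ (r : ℕ) (y : G), r.Prime ∧ (∃ k, orderOf y = r ^ k) ∧ cent y = cent x ∧ Isolated y := by
  set m := orderOf (QuotientGroup.mk x : G ⧸ Subgroup.center G) with hm
  have hm1 : m ≠ 1 := fun h => hx.1 ((QuotientGroup.eq_one_iff x).1 (orderOf_eq_one_iff.1 h))
  obtain ⟨r, hr, hrm⟩ := Nat.exists_prime_and_dvd hm1
  obtain ⟨a, b, ha, -, hab, hak, hbr⟩ := exists_p_split r hr x
  have haz : a ∉ Subgroup.center G := by
    intro haz
    apply hbr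
    have : (QuotientGroup.mk x : G ⧸ Subgroup.center G) = QuotientGroup.mk b := by
      rw [← hab, QuotientGroup.mk_mul, (QuotientGroup.eq_one_iff a).2 haz, one_mul]
    rw [hm, this] at hrm
    exact hrm.trans (orderOf_map_dvd (QuotientGroup.mk' (Subgroup.center G)) b)
  have he := hx.2 a haz (Or.inr (cent_le_of_mem_zpowers ha))
  exact ⟨r, a, hr, hak, he, haz, fun g hg h => by rw [he] at h ⊢; exact hx.2 g hg h⟩

/-- An isolated centraliser is abelian or a `p`-group modulo the centre. -/
theorem Isolated.comm_or_pgroup {x : G} (hx : Isolated x) {r : ℕ} (hr : r.Prime)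
    (hk : ∃ k, orderOf x = r ^ k) :
    (∀ a ∈ cent x, ∀ b ∈ cent x, a * b = b * a) ∨
      ∀ y ∈ cent x, ∃ k, y ^ (r ^ k) ∈ Subgroup.center G := by
  haveI : Fact r.Prime := ⟨hr⟩
  have hnt : cent x ≠ ⊤ := fun h => hx.1 (mem_center_iff_cent.2 h)
  -- a product with an element of coprime order in the centraliser
  have hprod : ∀ (h a : G), h ∉ Subgroup.center G → cent h = cent x → a ∈ cent x →
      Nat.Coprime (orderOf h) (orderOf a) → cent x ≤ cent a := by
    intro h a _ hhe ha hco
    have hcomm : Commute h a := by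
      have : a ∈ cent h := by rw [hhe]; exact ha
      exact (mem_cent.1 this).symm
    have he := cent_mul_eq_inf hcomm hco
    have hne : h * a ∉ Subgroup.center G := fun hc => hnt (by
      rw [mem_center_iff_cent, he, inf_eq_top_iff, hhe] at hc; exact hc.1)
    have := hx.2 (h * a) hne (Or.inl (by rw [he, hhe]; exact inf_le_left))
    rw [he, hhe] at this
    exact inf_eq_left.1 this
  obtain ⟨k₀, hk₀⟩ := hk
  by_cases hh : ∃ h ∈ cent x, h ∉ Subgroup.center G ∧ ¬ r ∣ orderOf h
  · left
    obtain ⟨h, hhx, hhz, hhr⟩ := hh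
    have hhe : cent h = cent x := by
      refine hx.2 h hhz (Or.inr (hprod x h hx.1 rfl hhx ?_))
      rw [hk₀]
      exact ((hr.coprime_iff_not_dvd).2 hhr).pow_left k₀
    intro y hy z hz
    obtain ⟨a, b, ha, hb, hab, ⟨ka, hka⟩, hbr⟩ := exists_p_split r hr y
    have hax : a ∈ cent x := (zpowers_le.2 hy) ha
    have hbx : b ∈ cent x := (zpowers_le.2 hy) hb
    have h1 : cent x ≤ cent a := hprod h a hhz hhe hax (by
      rw [hka]; exact (((hr.coprime_iff_not_dvd).2 hhr).pow_left ka).symm)
    have h2 : cent x ≤ cent b := hprod x b hx.1 rfl hbx (by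
      rw [hk₀]; exact ((hr.coprime_iff_not_dvd).2 hbr).pow_left k₀)
    rw [← hab]
    exact (((show Commute z a from mem_cent.1 (h1 hz)).mul_right
      (show Commute z b from mem_cent.1 (h2 hz))).eq).symm
  · right
    push Not at hh
    intro y hy
    obtain ⟨a, b, ha, hb, hab, ⟨ka, hka⟩, hbr⟩ := exists_p_split r hr y
    have hbx : b ∈ cent x := (zpowers_le.2 hy) hb
    have hbz : b ∈ Subgroup.center G := by
      by_contra hc; exact hbr (hh b hbx hc)
    refine ⟨ka, ?_⟩
    have hcomm : Commute a b := ((Subgroup.mem_center_iff.1 hbz) a)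
    rw [← hab, hcomm.mul_pow, ← hka, pow_orderOf_eq_one, one_mul]
    exact pow_mem hbz _

/-- A prime divisor of a relative index comes from a prime power element outside the subgroup. -/
theorem exists_pElement_not_mem {r : ℕ} [Fact r.Prime] {K H : Subgroup G} (h : r ∣ K.relIndex H) :
    ∃ y ∈ H, y ∉ K ∧ ∃ k, orderOf y = r ^ k := by
  by_contra hne
  push Not at hne
  obtain ⟨P⟩ : Nonempty (Sylow r H) := inferInstance
  have hP : (P : Subgroup H) ≤ K.subgroupOf H := by
    intro y hy
    obtain ⟨k, hk⟩ := IsPGroup.iff_orderOf.1 P.2 ⟨y, hy⟩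
    by_contra hc
    refine hne y y.2 hc k ?_
    rw [← hk, Subgroup.orderOf_mk]
    exact Subgroup.orderOf_coe y
  exact P.not_dvd_index (h.trans (Subgroup.index_dvd_of_le hP))

/-- No prime divides both indices of the centre in two isolated centralisers of different index,
one of them abelian. -/
theorem no_common_prime {x₁ x₂ : G} (h₁ : Isolated x₁) (h₂ : Isolated x₂)
    (hab : ∀ a ∈ cent x₁, ∀ b ∈ cent x₁, a * b = b * a)
    (hne : (cent x₁).index ≠ (cent x₂).index) {r : ℕ} [Fact r.Prime]
    (hw : ∃ w : G, w ∉ Subgroup.center G ∧ ¬ r ∣ (cent w).index)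
    (hr1 : r ∣ (Subgroup.center G).relIndex (cent x₁))
    (hb : ∃ b : G, b ∉ Subgroup.center G ∧ (∃ k, orderOf b = r ^ k) ∧
      (cent b).index = (cent x₂).index) : False := by
  have hX : ∀ y ∈ cent x₁, y ∉ Subgroup.center G → cent y = cent x₁ := fun y hy hyz =>
    h₁.2 y hyz (Or.inr fun a ha => mem_cent.2 (hab a ha y hy))
  obtain ⟨u, hu, huz, hk⟩ := exists_pElement_not_mem hr1
  obtain ⟨k, hk⟩ := hk
  obtain ⟨w, hwz, hwr⟩ := hw
  have hup : IsPGroup r (zpowers u) := IsPGroup.of_card (n := k) (by rw [Nat.card_zpowers, hk])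
  obtain ⟨z, hz⟩ := exists_conj_le_of_sylow hwr hup
  have huw : z * u * z⁻¹ ∈ cent w := hz u (mem_zpowers u)
  -- move `w` into the centraliser of `u`
  set w' := z⁻¹ * w * z with hw'
  have hzw : z * w' * z⁻¹ = w := by rw [hw']; group
  have hw'u : w' ∈ cent u := by
    have := conj_mem_cent (x := z⁻¹) huw
    rw [show z⁻¹ * (z * u * z⁻¹) * z⁻¹⁻¹ = u by group, inv_inv] at this
    exact mem_cent_symm this
  have hw'z : w' ∉ Subgroup.center G := fun hc => hwz (by
    rw [← hzw, (Subgroup.mem_center_iff.1 hc z), mul_inv_cancel_right]; exact hc)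
  rw [hX u hu huz] at hw'u
  have hcw : cent w' = cent x₁ := hX w' hw'u hw'z
  have hidx : (cent x₁).index = (cent w).index := by
    rw [← hcw, ← hzw]
    exact (ClassSize.index_centralizer_conj z w').symm
  obtain ⟨b, hbz, ⟨j, hbj⟩, hbe⟩ := hb
  have hbp : IsPGroup r (zpowers b) := IsPGroup.of_card (n := j) (by rw [Nat.card_zpowers, hbj])
  obtain ⟨v, hv⟩ := exists_conj_le_of_sylow (C := cent x₁) (by rw [hidx]; exact hwr) hbp
  have hb1 : cent (v * b * v⁻¹) = cent x₁ := hX _ (hv b (mem_zpowers b)) fun hc => hbz (by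
    have h2 := (Subgroup.center G).normal_of_characteristic.conj_mem _ hc v⁻¹
    rwa [show v⁻¹ * (v * b * v⁻¹) * v⁻¹⁻¹ = b by group] at h2)
  exact hne (by rw [← hb1]; exact (ClassSize.index_centralizer_conj v b).trans hbe)

/-! ### Centralisers modulo the centre -/

/-- The preimage of the centraliser of the image in the quotient by the centre. -/
abbrev bar (g : G) : Subgroup G :=
  (cent (QuotientGroup.mk g : G ⧸ Subgroup.center G)).comap (QuotientGroup.mk' (Subgroup.center G))

theorem cent_le_bar (g : G) : cent g ≤ bar g := fun x hx => by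
  show (QuotientGroup.mk x : G ⧸ Subgroup.center G) ∈ cent (QuotientGroup.mk g : G ⧸ Subgroup.center G)
  rw [mem_cent, ← QuotientGroup.mk_mul, ← QuotientGroup.mk_mul, mem_cent.1 hx]

theorem card_bar (g : G) :
    Nat.card ↥(bar g) = ord (QuotientGroup.mk g : G ⧸ Subgroup.center G) *
      Nat.card ↥(Subgroup.center G) := by
  have h := Subgroup.index_comap_of_surjective
    (cent (QuotientGroup.mk g : G ⧸ Subgroup.center G))
    (QuotientGroup.mk'_surjective (Subgroup.center G))
  have h1 := Subgroup.card_mul_index (bar g)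
  have h2 := Subgroup.card_mul_index (cent (QuotientGroup.mk g : G ⧸ Subgroup.center G))
  have h3 := Subgroup.card_eq_card_quotient_mul_card_subgroup (Subgroup.center G)
  rw [h, h3, ← h2] at h1
  have : 0 < (cent (QuotientGroup.mk g : G ⧸ Subgroup.center G)).index :=
    Nat.pos_of_ne_zero Subgroup.index_ne_zero_of_finite
  unfold ord
  nlinarith [h1]

theorem card_center_mul_relIndex (g : G) :
    Nat.card ↥(Subgroup.center G) * (Subgroup.center G).relIndex (cent g) = ord g := by
  unfold ord
  rw [← Subgroup.relIndex_bot_left (Subgroup.center G), ← Subgroup.relIndex_bot_left (cent g),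
    Subgroup.relIndex_mul_relIndex _ _ _ bot_le (center_le_cent g)]

/-- Primes dividing `|bar g : C(g)|`. -/
theorem dvd_of_dvd_relIndex_bar (g : G) {r : ℕ} [Fact r.Prime] (h : r ∣ (cent g).relIndex (bar g)) :
    r ∣ (cent g).index ∧ r ∣ (Subgroup.center G).relIndex (cent g) := by
  refine ⟨h.trans ?_, ?_⟩
  · rw [← Subgroup.relIndex_mul_index (cent_le_bar g)]; exact dvd_mul_right _ _
  obtain ⟨y, hy, hyg, k, hk⟩ := exists_pElement_not_mem h
  set c := y * g * y⁻¹ * g⁻¹ with hc
  have hyg' : (QuotientGroup.mk (y * g) : G ⧸ Subgroup.center G) = QuotientGroup.mk (g * y) := by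
    have : (QuotientGroup.mk y : G ⧸ Subgroup.center G) ∈
        cent (QuotientGroup.mk g : G ⧸ Subgroup.center G) := hy
    rw [QuotientGroup.mk_mul, QuotientGroup.mk_mul]
    exact mem_cent.1 this
  have hcz : c ∈ Subgroup.center G := by
    rw [← QuotientGroup.eq_one_iff, hc]
    rw [show y * g * y⁻¹ * g⁻¹ = (y * g) * (g * y)⁻¹ by group, QuotientGroup.mk_mul,
      QuotientGroup.mk_inv, hyg', mul_inv_cancel]
  have hc1 : c ≠ 1 := fun h1 => hyg (mem_cent.2 (by
    rw [hc, mul_inv_eq_one, mul_inv_eq_iff_eq_mul] at h1; exact h1))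
  have hconj : ∀ j : ℕ, y ^ j * g * (y ^ j)⁻¹ = c ^ j * g := by
    intro j
    induction j with
    | zero => simp
    | succ j ih =>
      rw [pow_succ' y, mul_inv_rev, show y * y ^ j * g * ((y ^ j)⁻¹ * y⁻¹) =
        y * (y ^ j * g * (y ^ j)⁻¹) * y⁻¹ by group, ih, pow_succ, mul_assoc (c ^ j) c g,
        show c * g = y * g * y⁻¹ by rw [hc]; group]
      rw [show y * (c ^ j * g) * y⁻¹ = (y * c ^ j) * (g * y⁻¹) by group,
        Subgroup.mem_center_iff.1 (pow_mem hcz j) y]
      group
  have hcr : c ^ (r ^ k) = 1 := by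
    have := hconj (r ^ k)
    rw [← hk, pow_orderOf_eq_one] at this
    rw [← hk]
    simpa using this.symm
  obtain ⟨j, -, hj⟩ := (Nat.dvd_prime_pow (Fact.out : r.Prime)).1 (orderOf_dvd_of_pow_eq_one hcr)
  have hcord : r ∣ orderOf c := by
    rcases j with _ | j
    · exact absurd (orderOf_eq_one_iff.1 (by simpa using hj)) hc1
    · rw [hj]; exact dvd_pow_self r (Nat.succ_ne_zero j)
  set n := (Subgroup.center G).relIndex (cent g) with hn
  have hgn : g ^ n ∈ Subgroup.center G := by
    have := Subgroup.pow_index_mem ((Subgroup.center G).subgroupOf (cent g)) ⟨g, self_mem_cent g⟩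
    exact this
  refine hcord.trans (orderOf_dvd_of_pow_eq_one ?_)
  have h1 : y * g ^ n * y⁻¹ = g ^ n := by
    rw [Subgroup.mem_center_iff.1 hgn y, mul_inv_cancel_right]
  have h2 : y * g ^ n * y⁻¹ = c ^ n * g ^ n := by
    rw [← conj_pow, show y * g * y⁻¹ = c * g by rw [hc]; group]
    exact (show Commute c g from (Subgroup.mem_center_iff.1 hcz g).symm).mul_pow n
  rw [h1] at h2
  exact mul_eq_right.1 h2.symm

/-- The centraliser modulo the centre when the class size is prime to the centraliser quotient. -/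
theorem bar_eq_cent_of_coprime (g : G)
    (h : Nat.Coprime (cent g).index ((Subgroup.center G).relIndex (cent g))) : bar g = cent g := by
  refine le_antisymm ?_ (cent_le_bar g)
  rw [← Subgroup.relIndex_eq_one]
  by_contra hne
  obtain ⟨r, hr, hrd⟩ := Nat.exists_prime_and_dvd hne
  haveI : Fact r.Prime := ⟨hr⟩
  obtain ⟨h1, h2⟩ := dvd_of_dvd_relIndex_bar g hrd
  exact hr.one_lt.ne' (Nat.eq_one_of_dvd_coprimes h h1 h2)

end Cfsg.Agent.CsPSL
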