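import Cfsg.Agent.CsPSL.OddRecog
import Cfsg.Agent.CsPSL.Quotient
import Cfsg.Agent.Linear.PermIso
import Mathlib.FieldTheory.Finite.GaloisField

/-!
Groups with the class sizes of `PSL(2, q)`, `q` odd.
-/

set_option autoImplicit false

namespace Cfsg.Agent.CsPSL

open Subgroup
open scoped Classical commutatorElement

variable {G : Type*} [Group G] [Finite G]

theorem mk_conj_mul_center {g g₀ x : G} (h : x⁻¹ * g₀ * x * g⁻¹ ∈ Subgroup.center G) :
    (cent g).index = (cent g₀).index := by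
  have hle : ∀ {a b : G}, a * b⁻¹ ∈ Subgroup.center G → cent a ≤ cent b := fun {a b} hab y hy => by
    refine mem_cent.2 ?_
    rw [show b = (a * b⁻¹)⁻¹ * a by group]
    have h1 : Commute y (a * b⁻¹)⁻¹ := Subgroup.mem_center_iff.1 (inv_mem hab) y
    exact (h1.mul_right (mem_cent.1 hy : Commute y a)).eq
  have h' : g * (x⁻¹ * g₀ * x)⁻¹ ∈ Subgroup.center G := by
    have := inv_mem h
    rwa [mul_inv_rev, inv_inv] at this
  rw [le_antisymm (hle h') (hle h)]
  have := ClassSize.index_centralizer_conj x⁻¹ g₀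
  rwa [inv_inv] at this

/-- Arithmetic of the class sizes of `PSL(2, q)`, `q` odd. -/
structure Num (p q D Q a K : ℕ) : Prop where
  prime : p.Prime
  qpow : ∃ i, 0 < i ∧ q = p ^ i
  hD : D = 2 * a + 1
  cases : (q = 4 * a + 3 ∧ Q = 4 * a + 4 ∧ K = 2 * a + 1 ∧ 1 ≤ a) ∨
    (q = 4 * a + 1 ∧ Q = 4 * a ∧ K + 1 = 2 * a ∧ 2 ≤ a)

namespace Num

variable {p q D Q a K : ℕ} (h : Num p q D Q a K)
include h

theorem pos : 1 < q ∧ 1 < D ∧ 4 ≤ Q := by
  have := h.hD
  rcases h.cases with ⟨e, e', -, ha⟩ | ⟨e, e', -, ha⟩ <;> exact ⟨by omega, by omega, by omega⟩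

theorem four_dvd_Q : 4 ∣ Q := by
  rcases h.cases with ⟨-, e, -⟩ | ⟨-, e, -⟩
  · exact ⟨a + 1, by omega⟩
  · exact ⟨a, e⟩

theorem coprime_q_QD : Nat.Coprime q (Q * D) := by
  have hsq : 2 * (Q * D) + 1 = q ^ 2 := by
    rcases h.cases with ⟨hq, hQ, -⟩ | ⟨hq, hQ, -⟩ <;> rw [hq, hQ, h.hD] <;> ring
  refine Nat.coprime_of_dvd fun k hk h1 h2 => hk.one_lt.ne' (Nat.dvd_one.1 ?_)
  have h3 : k ∣ 2 * (Q * D) + 1 := hsq ▸ h1.trans (dvd_pow_self q two_ne_zero)
  exact (Nat.dvd_add_right (h2.mul_left 2)).1 h3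

theorem coprime_q_Q : Nat.Coprime q Q := h.coprime_q_QD.coprime_mul_right_right

theorem coprime_q_D : Nat.Coprime q D := h.coprime_q_QD.coprime_mul_left_right

theorem coprime_D_two : Nat.Coprime D 2 := by
  rw [Nat.coprime_two_right, h.hD]; exact ⟨a, rfl⟩

theorem coprime_D_Q : Nat.Coprime D Q := by
  refine Nat.coprime_of_dvd fun k hk h1 h2 => ?_
  have hk2 : k ∣ 2 := by
    have h1' : k ∣ 2 * a + 1 := h.hD ▸ h1
    rcases h.cases with ⟨-, hQ, -⟩ | ⟨-, hQ, -⟩
    · rw [hQ] at h2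
      have := Nat.dvd_sub h2 (h1'.mul_left 2)
      rwa [show 4 * a + 4 - 2 * (2 * a + 1) = 2 by omega] at this
    · rw [hQ] at h2
      have := Nat.dvd_sub (h1'.mul_left 2) h2
      rwa [show 2 * (2 * a + 1) - 4 * a = 2 by omega] at this
  exact hk.one_lt.ne' (Nat.eq_one_of_dvd_coprimes h.coprime_D_two h1 hk2)

theorem p_dvd_q : p ∣ q := by
  obtain ⟨i, hi, e⟩ := h.qpow
  exact e ▸ dvd_pow_self p hi.ne'

theorem p_ne_two : p ≠ 2 := fun e => by
  have := h.p_dvd_q
  rw [e] at this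
  rcases h.cases with ⟨e', -⟩ | ⟨e', -⟩ <;> omega

theorem coprime_qD_two : Nat.Coprime (q * D) 2 := by
  rw [Nat.coprime_two_right]
  refine Odd.mul ?_ ⟨a, h.hD⟩
  rcases h.cases with ⟨e, -⟩ | ⟨e, -⟩
  · exact ⟨2 * a + 1, by omega⟩
  · exact ⟨2 * a, by omega⟩

variable (hS : Set.range (fun g : G => (cent g).index) =
  {1, Q * D, q * D, q * Q, 2 * (q * D)})
include hS

theorem index_cases {g : G} (hg : g ∉ Subgroup.center G) : (cent g).index = Q * D ∨
    (cent g).index = q * D ∨ (cent g).index = q * Q ∨ (cent g).index = 2 * (q * D) := by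
  have h1 : (cent g).index ∈ Set.range (fun g : G => (cent g).index) := ⟨g, rfl⟩
  rw [hS] at h1
  simp only [Set.mem_insert_iff, Set.mem_singleton_iff] at h1
  rcases h1 with e | e | e | e | e
  · exact absurd (mem_center_iff_cent.2 (Subgroup.index_eq_one.1 e)) hg
  exacts [Or.inl e, Or.inr (Or.inl e), Or.inr (Or.inr (Or.inl e)), Or.inr (Or.inr (Or.inr e))]

theorem exists_of_mem {n : ℕ} (hn : n = Q * D ∨ n = q * D ∨ n = q * Q) :
    ∃ g : G, g ∉ Subgroup.center G ∧ (cent g).index = n := by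
  obtain ⟨hq, hD, hQ⟩ := h.pos
  obtain ⟨g, hg⟩ : n ∈ Set.range (fun g : G => (cent g).index) := by
    rw [hS]
    simp only [Set.mem_insert_iff, Set.mem_singleton_iff]
    tauto
  refine ⟨g, fun hc => ?_, hg⟩
  change (cent g).index = n at hg
  rw [mem_center_iff_cent.1 hc, Subgroup.index_top] at hg
  rcases hn with rfl | rfl | rfl <;> nlinarith

theorem isolated_U {g : G} (hg : g ∉ Subgroup.center G) (hi : (cent g).index = Q * D) :
    Isolated g := by
  obtain ⟨hq, hD, hQ⟩ := h.pos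
  refine isolated_of_index hg (fun y hy hd => ?_) (fun y hy hd => ?_) <;> rw [hi] at hd ⊢ <;>
    rcases h.index_cases hS hy with e | e | e | e <;> rw [e] at hd ⊢ <;> exfalso
  · have := Nat.eq_one_of_dvd_coprimes h.coprime_q_Q.symm dvd_rfl
      (Nat.dvd_of_mul_dvd_mul_right (by omega) hd)
    omega
  · have := Nat.eq_one_of_dvd_coprimes h.coprime_q_D.symm dvd_rfl
      ((h.coprime_D_Q.dvd_of_dvd_mul_right ((dvd_mul_left D Q).trans hd)))
    omega
  · have := h.coprime_q_Q.symm.dvd_of_dvd_mul_right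
      (show Q ∣ 2 * q from Nat.dvd_of_mul_dvd_mul_right (show 0 < D by omega) (by rwa [mul_assoc]))
    have := Nat.le_of_dvd (by norm_num) this
    omega
  · have := Nat.eq_one_of_dvd_coprimes h.coprime_q_QD dvd_rfl ((dvd_mul_right q D).trans hd)
    omega
  · have := Nat.eq_one_of_dvd_coprimes h.coprime_q_QD dvd_rfl ((dvd_mul_right q Q).trans hd)
    omega
  · have := Nat.eq_one_of_dvd_coprimes h.coprime_q_QD dvd_rfl
      (((dvd_mul_right q D).trans (dvd_mul_left _ 2)).trans hd)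
    omega

theorem isolated_B {g : G} (hg : g ∉ Subgroup.center G) (hi : (cent g).index = q * Q) :
    Isolated g := by
  obtain ⟨hq, hD, hQ⟩ := h.pos
  refine isolated_of_index hg (fun y hy hd => ?_) (fun y hy hd => ?_) <;> rw [hi] at hd ⊢ <;>
    rcases h.index_cases hS hy with e | e | e | e <;> rw [e] at hd ⊢ <;> exfalso
  · have := Nat.eq_one_of_dvd_coprimes h.coprime_q_QD dvd_rfl ((dvd_mul_right q Q).trans hd)
    omega
  · have := Nat.eq_one_of_dvd_coprimes h.coprime_D_Q.symm dvd_rfl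
      (Nat.dvd_of_mul_dvd_mul_left (by omega) hd)
    omega
  · have := h.coprime_D_Q.symm.dvd_of_dvd_mul_right
      (show Q ∣ 2 * D from Nat.dvd_of_mul_dvd_mul_left (show 0 < q by omega)
        (by rwa [mul_left_comm]))
    have := Nat.le_of_dvd (by norm_num) this
    omega
  · have := Nat.eq_one_of_dvd_coprimes h.coprime_q_D.symm dvd_rfl
      (h.coprime_D_Q.dvd_of_dvd_mul_right ((dvd_mul_left D Q).trans hd))
    omega
  · have := Nat.eq_one_of_dvd_coprimes h.coprime_D_Q dvd_rfl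
      (Nat.dvd_of_mul_dvd_mul_left (by omega) hd)
    omega
  · have := Nat.eq_one_of_dvd_coprimes h.coprime_D_Q dvd_rfl
      (Nat.dvd_of_mul_dvd_mul_left (show 0 < q by omega)
        ((dvd_mul_left (q * D) 2).trans hd))
    omega

/-- The order modulo the centre. -/
theorem card_quotient : Nat.card (G ⧸ Subgroup.center G) = q * (Q * D) := by
  obtain ⟨hq, hD, hQ⟩ := h.pos
  obtain ⟨x₁, hx₁, e₁⟩ := h.exists_of_mem hS (n := Q * D) (Or.inl rfl)
  obtain ⟨x₂, hx₂, e₂⟩ := h.exists_of_mem hS (n := q * Q) (Or.inr (Or.inr rfl))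
  obtain ⟨x₃, hx₃, e₃⟩ := h.exists_of_mem hS (n := q * D) (Or.inr (Or.inl rfl))
  have r₁ := card_quotient_eq x₁
  have r₂ := card_quotient_eq x₂
  rw [e₁] at r₁; rw [e₂] at r₂
  set n := Nat.card (G ⧸ Subgroup.center G)
  obtain ⟨m, hm⟩ : q * (Q * D) ∣ n := h.coprime_q_QD.mul_dvd_of_dvd_of_dvd
    ((dvd_mul_right q Q).trans (r₂ ▸ dvd_mul_left _ _)) (r₁ ▸ dvd_mul_left _ _)
  suffices m = 1 by rw [hm, this, mul_one]
  by_contra hm1
  obtain ⟨r, hr, hrm⟩ := Nat.exists_prime_and_dvd hm1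
  haveI : Fact r.Prime := ⟨hr⟩
  have hQD : 0 < Q * D := Nat.mul_pos (by omega) (by omega)
  have f₁ : (Subgroup.center G).relIndex (cent x₁) = q * m :=
    Nat.eq_of_mul_eq_mul_right hQD (by rw [r₁, hm]; ring)
  have f₂ : (Subgroup.center G).relIndex (cent x₂) = D * m :=
    Nat.eq_of_mul_eq_mul_right (show 0 < q * Q from Nat.mul_pos (by omega) (by omega))
      (by rw [r₂, hm]; ring)
  have hw : ∃ w : G, w ∉ Subgroup.center G ∧ ¬ r ∣ (cent w).index := by
    by_contra hne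
    push Not at hne
    have a₁ := hne x₁ hx₁
    have a₂ := hne x₂ hx₂
    have a₃ := hne x₃ hx₃
    rw [e₁] at a₁; rw [e₂] at a₂; rw [e₃] at a₃
    rcases (Nat.Prime.dvd_mul hr).1 a₃ with a₃ | a₃
    · exact hr.one_lt.ne' (Nat.eq_one_of_dvd_coprimes h.coprime_q_QD a₃ a₁)
    · exact hr.one_lt.ne' (Nat.eq_one_of_dvd_coprimes
        (Nat.Coprime.mul_right h.coprime_q_D.symm h.coprime_D_Q) a₃ a₂)
  have hne : (cent x₁).index ≠ (cent x₂).index := by
    rw [e₁, e₂]
    intro e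
    have := Nat.eq_one_of_dvd_coprimes h.coprime_q_QD dvd_rfl (e ▸ dvd_mul_right q Q)
    omega
  have hr1 : r ∣ (Subgroup.center G).relIndex (cent x₁) := f₁ ▸ hrm.mul_left q
  have hr2 : r ∣ (Subgroup.center G).relIndex (cent x₂) := f₂ ▸ hrm.mul_left D
  by_cases hrp : r = p
  · obtain ⟨s, hs, hsD⟩ := Nat.exists_prime_and_dvd (n := D) (by omega)
    refine false_of_common_prime (h.isolated_B hS hx₂ e₂) (h.isolated_U hS hx₁ e₁) hne.symm hw hr2 hr1
      hs ?_ (f₂ ▸ hsD.mul_right m)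
    intro e
    exact hs.one_lt.ne' (Nat.eq_one_of_dvd_coprimes h.coprime_q_D
      ((e.trans hrp).symm ▸ h.p_dvd_q) hsD)
  · exact false_of_common_prime (h.isolated_U hS hx₁ e₁) (h.isolated_B hS hx₂ e₂) hne hw hr1 hr2
      h.prime (Ne.symm hrp) (f₁ ▸ h.p_dvd_q.mul_right m)

theorem relIndex_of_index {g : G} {r i : ℕ} (hi : (cent g).index = i) (hri : r * i = q * (Q * D)) :
    (Subgroup.center G).relIndex (cent g) = r := by
  have := card_quotient_eq g
  rw [h.card_quotient hS, hi, ← hri] at this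
  refine Nat.eq_of_mul_eq_mul_right ?_ this
  exact hi ▸ Nat.pos_of_ne_zero Subgroup.index_ne_zero_of_finite

/-- The centraliser orders modulo the centre. -/
theorem ord_mk {g : G} (hg : g ∉ Subgroup.center G) :
    let t := ord (QuotientGroup.mk g : G ⧸ Subgroup.center G)
    ((cent g).index = Q * D ∧ t = q ∧ bar g = cent g) ∨
      ((cent g).index = q * Q ∧ t = D ∧ bar g = cent g) ∨
      ((cent g).index = q * D ∧ t = Q ∧ bar g = cent g) ∨
      ((cent g).index = 2 * (q * D) ∧ (t = Q ∨ (2 * t = Q ∧ bar g = cent g))) := by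
  obtain ⟨hq, hD, hQ⟩ := h.pos
  rcases h.index_cases hS hg with e | e | e | e
  · have f := h.relIndex_of_index hS e (r := q) rfl
    have hb : bar g = cent g := bar_eq_cent_of_coprime g (by rw [e, f]; exact h.coprime_q_QD.symm)
    exact Or.inl ⟨e, (ord_mk_eq_relIndex hb).trans f, hb⟩
  · have f := h.relIndex_of_index hS e (r := Q) (by ring)
    have hb : bar g = cent g := bar_eq_cent_of_coprime g (by
      rw [e, f]; exact h.coprime_q_Q.mul_left h.coprime_D_Q)
    exact Or.inr (Or.inr (Or.inl ⟨e, (ord_mk_eq_relIndex hb).trans f, hb⟩))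
  · have f := h.relIndex_of_index hS e (r := D) (by ring)
    have hb : bar g = cent g := bar_eq_cent_of_coprime g (by
      rw [e, f]; exact (h.coprime_q_D.mul_left h.coprime_D_Q.symm))
    exact Or.inr (Or.inl ⟨e, (ord_mk_eq_relIndex hb).trans f, hb⟩)
  · obtain ⟨c, hc⟩ : 2 ∣ Q := (by norm_num : 2 ∣ 4).trans h.four_dvd_Q
    have f := h.relIndex_of_index hS e (r := c) (by rw [hc]; ring)
    refine Or.inr (Or.inr (Or.inr ⟨e, ?_⟩))
    set t := ord (QuotientGroup.mk g : G ⧸ Subgroup.center G) with ht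
    set k := (cent g).relIndex (bar g) with hk
    have htk : t = c * k := by
      have h1 : Nat.card ↥(cent g) * k = Nat.card ↥(bar g) := by
        rw [hk, ← Subgroup.relIndex_bot_left (cent g), ← Subgroup.relIndex_bot_left (bar g),
          Subgroup.relIndex_mul_relIndex _ _ _ bot_le (cent_le_bar g)]
      rw [card_bar, show Nat.card ↥(cent g) = ord g from rfl, ← card_center_mul_relIndex, f] at h1
      exact (Nat.eq_of_mul_eq_mul_left Nat.card_pos (by rw [mul_comm t] at h1; rw [← mul_assoc]; exact h1)).symm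
    have hkd : k ∣ 2 * (q * D) := by
      rw [← e, ← Subgroup.relIndex_mul_index (cent_le_bar g)]
      exact dvd_mul_right _ _
    have hk2 : k ∣ 2 := by
      have hco : Nat.Coprime k (q * D) := by
        refine Nat.coprime_of_dvd fun r hr hrk hrqD => ?_
        haveI : Fact r.Prime := ⟨hr⟩
        obtain ⟨-, h2⟩ := dvd_of_dvd_relIndex_bar g hrk
        rw [f] at h2
        exact hr.one_lt.ne' (Nat.eq_one_of_dvd_coprimes (h.coprime_q_Q.mul_left h.coprime_D_Q)
          hrqD (h2.trans (hc ▸ dvd_mul_left c 2)))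
      exact hco.dvd_of_dvd_mul_right hkd
    rcases (Nat.dvd_prime Nat.prime_two).1 hk2 with k1 | k2
    · refine Or.inr ⟨by rw [htk, k1, hc]; ring, ?_⟩
      exact le_antisymm (Subgroup.relIndex_eq_one.1 k1) (cent_le_bar g)
    · exact Or.inl (by rw [htk, k2, hc]; ring)

theorem ohyp : OHyp (G ⧸ Subgroup.center G) p q D Q a K := by
  obtain ⟨hq, hD, hQ⟩ := h.pos
  have hord : ∀ x : G ⧸ Subgroup.center G, x ≠ 1 →
      ord x = q ∨ ord x = D ∨ ord x = Q ∨ 2 * ord x = Q := by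
    intro x hx
    obtain ⟨g, rfl⟩ := QuotientGroup.mk'_surjective (Subgroup.center G) x
    have hg : g ∉ Subgroup.center G := fun hc => hx ((QuotientGroup.eq_one_iff g).2 hc)
    rcases h.ord_mk hS hg with ⟨-, e, -⟩ | ⟨-, e, -⟩ | ⟨-, e, -⟩ | ⟨-, e | ⟨e, -⟩⟩
    exacts [Or.inl e, Or.inr (Or.inl e), Or.inr (Or.inr (Or.inl e)), Or.inr (Or.inr (Or.inl e)),
      Or.inr (Or.inr (Or.inr e))]
  have hpQD : ¬ p ∣ Q * D := fun hd =>
    h.prime.one_lt.ne' (Nat.eq_one_of_dvd_coprimes h.coprime_q_QD h.p_dvd_q hd)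
  refine ⟨⟨h.prime, h.card_quotient hS, h.qpow, hpQD, fun x hx hp => ?_⟩, h.p_ne_two, h.hD, h.cases,
    hord⟩
  rcases hord x hx with e | e | e | e
  · exact e
  · exact absurd (e ▸ hp) fun hd => hpQD (hd.mul_left Q)
  · exact absurd (e ▸ hp) fun hd => hpQD (hd.mul_right D)
  · exact absurd ((e ▸ hp.mul_left 2 : p ∣ Q)) fun hd => hpQD (hd.mul_right D)

/-- Commuting modulo the centre is commuting. -/
theorem bar_eq_cent (g : G) : bar g = cent g := by
  obtain ⟨hq, hD, hQ⟩ := h.pos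
  by_cases hg : g ∈ Subgroup.center G
  · refine le_antisymm ?_ (cent_le_bar g)
    rw [mem_center_iff_cent.1 hg]; exact le_top
  obtain hb | ⟨e, ht⟩ : bar g = cent g ∨ ((cent g).index = 2 * (q * D) ∧
      ord (QuotientGroup.mk g : G ⧸ Subgroup.center G) = Q) := by
    rcases h.ord_mk hS hg with ⟨-, -, hb⟩ | ⟨-, -, hb⟩ | ⟨-, -, hb⟩ | ⟨e, ht | ⟨-, hb⟩⟩
    exacts [Or.inl hb, Or.inl hb, Or.inl hb, Or.inr ⟨e, ht⟩, Or.inl hb]
  · exact hb
  exfalso
  have hX := h.ohyp hS
  obtain ⟨g₀, hg₀, e₀⟩ := h.exists_of_mem hS (n := q * D) (Or.inr (Or.inl rfl))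
  have ht₀ : ord (QuotientGroup.mk g₀ : G ⧸ Subgroup.center G) = Q := by
    rcases h.ord_mk hS hg₀ with ⟨e', -⟩ | ⟨e', -⟩ | ⟨-, e', -⟩ | ⟨e', -⟩
    · rw [e₀] at e'
      have := Nat.eq_one_of_dvd_coprimes h.coprime_q_QD dvd_rfl (e' ▸ dvd_mul_right q D)
      omega
    · rw [e₀] at e'
      have := Nat.eq_one_of_dvd_coprimes h.coprime_D_Q.symm dvd_rfl
        (Nat.dvd_of_mul_dvd_mul_left (by omega) (e' ▸ dvd_rfl : q * Q ∣ q * D))
      omega
    · exact e'
    · rw [e₀] at e'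
      have : 0 < q * D := Nat.mul_pos (by omega) (by omega)
      omega
  have hI : ∀ y : G, y ∉ Subgroup.center G →
      ord (QuotientGroup.mk y : G ⧸ Subgroup.center G) = Q →
      (QuotientGroup.mk y : G ⧸ Subgroup.center G) ∈ OHyp.I (G ⧸ Subgroup.center G) := by
    intro y hy hyQ
    by_contra hn
    obtain ⟨u, hu⟩ := hX.exists_involution
    have := (hX.others_eq hu).2 _ ⟨hX.mem_W_of_ord (mk_ne_one hy) (Or.inl hyQ), hn⟩
    omega
  obtain ⟨x, hx⟩ := isConj_iff.1 (hX.isConj_involutions (hI g hg ht) (hI g₀ hg₀ ht₀))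
  obtain ⟨x, rfl⟩ := QuotientGroup.mk'_surjective (Subgroup.center G) x
  have hz : x⁻¹ * g₀ * x * g⁻¹ ∈ Subgroup.center G := by
    rw [← QuotientGroup.eq_one_iff, QuotientGroup.mk_mul, QuotientGroup.mk_mul, QuotientGroup.mk_mul,
      QuotientGroup.mk_inv, QuotientGroup.mk_inv, ← hx]
    simp only [QuotientGroup.mk'_apply]
    group
  have := mk_conj_mul_center hz
  rw [e, e₀] at this
  have : 0 < q * D := Nat.mul_pos (by omega) (by omega)
  omega

theorem central_commutator_eq_one : ∀ z ∈ Subgroup.center G, z ∈ commutator G → z = 1 := by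
  obtain ⟨hq, hD, hQ⟩ := h.pos
  have hX := h.ohyp hS
  have hbar := h.bar_eq_cent hS
  intro z hz hz'
  have hle : ∀ H : Subgroup (G ⧸ Subgroup.center G),
      Subgroup.center G ≤ H.comap (QuotientGroup.mk' (Subgroup.center G)) := fun H x hx => by
    show (QuotientGroup.mk x : G ⧸ Subgroup.center G) ∈ H
    rw [(QuotientGroup.eq_one_iff x).2 hx]
    exact one_mem H
  have hidx : ∀ H : Subgroup (G ⧸ Subgroup.center G),
      (H.comap (QuotientGroup.mk' (Subgroup.center G))).index = H.index := fun H =>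
    Subgroup.index_comap_of_surjective H (QuotientGroup.mk'_surjective _)
  have habel : ∀ H : Subgroup (G ⧸ Subgroup.center G), (∀ a ∈ H, ∀ b ∈ H, a * b = b * a) →
      z ^ H.index = 1 := fun H hH => by
    rw [← hidx H]
    refine pow_index_eq_one (hle H) (fun w _ hw => ?_) hz hz'
    rw [commutator_comap_eq_bot hbar hH] at hw
    exact hw
  -- the three subgroups
  have h1 : z ^ (Q * D) = 1 := by
    obtain ⟨x, hx, e⟩ := h.exists_of_mem hS (n := Q * D) (Or.inl rfl)
    rcases h.ord_mk hS hx with ⟨-, e', -⟩ | ⟨e', -⟩ | ⟨e', -⟩ | ⟨e', -⟩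
    · rw [← hX.u.index_of_U e']
      exact habel _ (hX.cent_comm_U ⟨mk_ne_one hx, e'⟩)
    all_goals
      exfalso
      rw [e] at e'
    · have := Nat.eq_one_of_dvd_coprimes h.coprime_q_QD dvd_rfl (e' ▸ dvd_mul_right q Q)
      omega
    · have := Nat.eq_one_of_dvd_coprimes h.coprime_q_QD dvd_rfl (e' ▸ dvd_mul_right q D)
      omega
    · have := Nat.eq_one_of_dvd_coprimes h.coprime_q_QD dvd_rfl
        (e' ▸ (dvd_mul_right q D).trans (dvd_mul_left _ 2))
      omega
  have h2 : z ^ (q * Q) = 1 := by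
    obtain ⟨x, hx, e⟩ := h.exists_of_mem hS (n := q * Q) (Or.inr (Or.inr rfl))
    have hi := h.relIndex_of_index hS e (r := D) (by ring)
    rcases h.ord_mk hS hx with ⟨e', -⟩ | ⟨-, e', -⟩ | ⟨e', -⟩ | ⟨e', -⟩
    · exfalso
      rw [e] at e'
      have := Nat.eq_one_of_dvd_coprimes h.coprime_q_QD dvd_rfl (e' ▸ dvd_mul_right q Q)
      omega
    · rw [← hX.index_eq e' (m := q * Q) (by ring)]
      exact habel _ (hX.cent_comm_B ⟨mk_ne_one hx, e'⟩)
    all_goals
      exfalso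
      rw [e] at e'
    · have := Nat.eq_one_of_dvd_coprimes h.coprime_D_Q.symm dvd_rfl
        (Nat.eq_of_mul_eq_mul_left (show 0 < q by omega) e' ▸ dvd_rfl)
      omega
    · have e'' : Q = 2 * D := Nat.eq_of_mul_eq_mul_left (show 0 < q by omega)
        (e'.trans (by ring))
      have := Nat.eq_one_of_dvd_coprimes h.coprime_D_Q dvd_rfl (e'' ▸ dvd_mul_left D 2)
      omega
  have h3 : z ^ (q * D) = 1 := by
    obtain ⟨u, hu⟩ := hX.exists_involution
    obtain ⟨A, hAu, huA, hA2, hAab, hAcent, hAout⟩ := hX.exists_A hu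
    obtain ⟨s, hsu, hsA⟩ : ∃ s ∈ cent u, s ∉ A := by
      by_contra hne
      push Not at hne
      have h4 := Subgroup.card_le_of_le (show cent u ≤ A from hne)
      have h5 : Nat.card ↥(cent u) = Q := hX.ord_involution hu
      omega
    obtain ⟨hsI, hsinv⟩ := hAout s hsu hsA
    obtain ⟨s, rfl⟩ := QuotientGroup.mk'_surjective (Subgroup.center G) s
    rw [← hX.index_eq (hX.ord_involution hu) (m := q * D) (by ring), ← hidx]
    refine pow_index_eq_one (hle _) ?_ hz hz'
    refine inf_commutator_comap hbar hAab (s := s) (fun x hx => ?_) (fun x hx => ?_)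
    · have e := hsinv x hx
      simp only [QuotientGroup.mk'_apply] at e
      rw [e]; exact inv_mem hx
    · by_cases hxA : x ∈ A
      · exact Or.inl hxA
      refine Or.inr ?_
      by_contra hc
      set t := (QuotientGroup.mk s : G ⧸ Subgroup.center G) with ht
      have hsI' : t ∈ OHyp.I (G ⧸ Subgroup.center G) := hsI
      rw [inv_eq_of_I hsI'] at hc
      -- both `t` and `x * t` invert `A`, so `x` centralises it
      have e1 := (hAout (x * t) (mul_mem hx hsu) hc).2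
      have e2 := (hAout x hx hxA).2
      have hA4 : 2 < Nat.card ↥A := by
        rcases h.cases with ⟨-, e2, -, ha⟩ | ⟨-, e2, -, ha⟩ <;> omega
      obtain ⟨y, hyA, hy1, hyu⟩ : ∃ y ∈ A, y ≠ 1 ∧ y ≠ u := by
        by_contra hne
        push Not at hne
        have hsub : (A : Set (G ⧸ Subgroup.center G)) ⊆ {1, u} := fun y hy => by
          by_cases e : y = 1
          · exact Or.inl e
          · exact Or.inr (hne y hy e)
        have h4 := Set.ncard_le_ncard hsub (Set.toFinite _)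
        rw [← Nat.card_coe_set_eq] at h4
        have h5 : ({1, u} : Set (G ⧸ Subgroup.center G)).ncard ≤ 2 :=
          (Set.ncard_insert_le _ _).trans (by simp)
        have h6 : Nat.card ↥(A : Set (G ⧸ Subgroup.center G)) = Nat.card ↥A := rfl
        omega
      have e3 := e1 y hyA
      have e4 := hsinv y hyA
      rw [show x * t * y * (x * t)⁻¹ = x * (t * y * t⁻¹) * x⁻¹ by group,
        show t * y * t⁻¹ = y⁻¹ from e4, e2 _ (inv_mem hyA), inv_inv] at e3
      exact (hAcent y hyA hy1 hyu).1 ⟨hy1, mul_eq_one_iff_eq_inv.2 e3⟩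
  rw [← orderOf_eq_one_iff]
  refine Nat.eq_one_of_dvd_coprimes (h.coprime_q_Q.mul_left h.coprime_D_Q)
    (orderOf_dvd_of_pow_eq_one h3) ?_
  have h4 : orderOf z ∣ Nat.gcd (Q * D) (Q * q) :=
    Nat.dvd_gcd (orderOf_dvd_of_pow_eq_one h1) (mul_comm q Q ▸ orderOf_dvd_of_pow_eq_one h2)
  rwa [Nat.gcd_mul_left, h.coprime_q_D.symm.gcd_eq_one, mul_one] at h4

end Num

/-- Groups with the class sizes of `PSL(2, q)`, `q` odd. -/
theorem main_odd {F : Type*} [Field F] [Fintype F] (hodd : ¬ 2 ∣ Fintype.card F)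
    (h7 : 7 ≤ Fintype.card F)
    (hS : Set.range (fun g : G => (cent g).index) =
      if Fintype.card F % 4 = 1 then
        {1, (Fintype.card F ^ 2 - 1) / 2, Fintype.card F * (Fintype.card F + 1) / 2,
          Fintype.card F * (Fintype.card F - 1), Fintype.card F * (Fintype.card F + 1)}
      else
        {1, (Fintype.card F ^ 2 - 1) / 2, Fintype.card F * (Fintype.card F - 1) / 2,
          Fintype.card F * (Fintype.card F + 1), Fintype.card F * (Fintype.card F - 1)}) :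
    Nonempty (G ⧸ Subgroup.center G ≃* Matrix.ProjectiveSpecialLinearGroup (Fin 2) F) ∧
      ∀ z ∈ Subgroup.center G, z ∈ commutator G → z = 1 := by
  obtain ⟨⟨n, hn⟩, hp, hcard⟩ := FiniteField.card F (ringChar F)
  set q := Fintype.card F with hq
  set a := q / 4 with ha
  obtain ⟨D, Q, K, hnum, hS'⟩ : ∃ D Q K, Num (ringChar F) q D Q a K ∧
      Set.range (fun g : G => (cent g).index) = {1, Q * D, q * D, q * Q, 2 * (q * D)} := by
    have hD : q * (2 * a + 1) * 2 / 2 = q * (2 * a + 1) := Nat.mul_div_cancel _ two_pos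
    by_cases h1 : q % 4 = 1
    · rw [if_pos h1] at hS
      have e : q = 4 * a + 1 := by omega
      refine ⟨2 * a + 1, 4 * a, 2 * a - 1,
        ⟨hp, ⟨n, hn, hcard⟩, rfl, Or.inr ⟨e, rfl, by omega, by omega⟩⟩, ?_⟩
      rw [hS]
      have e1 : q ^ 2 - 1 = 4 * a * (2 * a + 1) * 2 := by
        have : q ^ 2 = 4 * a * (2 * a + 1) * 2 + 1 := by rw [e]; ring
        omega
      have e2 : q * (q + 1) = q * (2 * a + 1) * 2 := by rw [e]; ring
      rw [e1, e2, hD, Nat.mul_div_cancel _ two_pos, show q - 1 = 4 * a by omega,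
        show q * (2 * a + 1) * 2 = 2 * (q * (2 * a + 1)) by ring]
    · rw [if_neg h1] at hS
      have e : q = 4 * a + 3 := by omega
      refine ⟨2 * a + 1, 4 * a + 4, 2 * a + 1,
        ⟨hp, ⟨n, hn, hcard⟩, rfl, Or.inl ⟨e, rfl, rfl, by omega⟩⟩, ?_⟩
      rw [hS]
      have e1 : q ^ 2 - 1 = (4 * a + 4) * (2 * a + 1) * 2 := by
        have : q ^ 2 = (4 * a + 4) * (2 * a + 1) * 2 + 1 := by rw [e]; ring
        omega
      have e2 : q * (q - 1) = q * (2 * a + 1) * 2 := by
        rw [show q - 1 = (2 * a + 1) * 2 by omega]; ring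
      rw [e1, e2, hD, Nat.mul_div_cancel _ two_pos, show q + 1 = 4 * a + 4 by omega,
        show q * (2 * a + 1) * 2 = 2 * (q * (2 * a + 1)) by ring]
  refine ⟨?_, hnum.central_commutator_eq_one hS'⟩
  obtain ⟨F', iF, iFF, hF', ⟨e⟩⟩ := (hnum.ohyp hS').psl_odd
  obtain ⟨e'⟩ := Linear.psl_congr (FiniteField.ringEquivOfCardEq hF') (Fin 2)
  exact ⟨e.trans e'⟩

end Cfsg.Agent.CsPSL
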