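import Cfsg.Agent.CsPSL.MainEven
import Cfsg.Agent.CsPSL.MainOdd
import Cfsg.Agent.S2507
import Cfsg.Agent.S2508

/-!
Groups with the class sizes of `PSL(2, q)`.
-/

set_option autoImplicit false

namespace Cfsg.Agent.CsPSL

open Subgroup
open scoped commutatorElement

theorem main {F : Type*} [Field F] [Fintype F]
    (hq : (2 ∣ Fintype.card F ∧ 2 < Fintype.card F) ∨ (¬ 2 ∣ Fintype.card F ∧ 7 ≤ Fintype.card F))
    {G : Type*} [Group G] [Finite G]
    (h : Set.range (fun g : G => (Subgroup.centralizer ({g} : Set G)).index) = Set.range (fun g : (Matrix.ProjectiveSpecialLinearGroup (Fin 2) F) => (Subgroup.centralizer ({g} : Set (Matrix.ProjectiveSpecialLinearGroup (Fin 2) F))).index)) :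
    Nonempty (G ⧸ Subgroup.center G ≃* Matrix.ProjectiveSpecialLinearGroup (Fin 2) F) ∧
      ∀ z ∈ Subgroup.center G, z ∈ commutator G → z = 1 := by
  rcases hq with ⟨h2, hq2⟩ | ⟨hodd, h7⟩
  · exact main_even h2 hq2 (h.trans (S2507.result h2 (by omega)))
  · refine main_odd hodd h7 (h.trans ?_)
    obtain ⟨h1, h3⟩ := S2508.result (F := F) hodd h7
    split_ifs with hm
    · exact h1 hm
    · exact h3 (by omega)

theorem commutator_eq_top_of_equiv {G : Type*} [Group G] {F : Type*} [Field F] [Fintype F]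
    (h4 : 4 ≤ Fintype.card F)
    (e : G ≃* Matrix.ProjectiveSpecialLinearGroup (Fin 2) F) : commutator G = ⊤ := by
  haveI : IsSimpleGroup (Matrix.ProjectiveSpecialLinearGroup (Fin 2) F) :=
    Matrix.ProjectiveSpecialLinearGroup.rank_two_simple (by rwa [Nat.card_eq_fintype_card])
  haveI : Finite G := Finite.of_equiv _ e.symm.toEquiv
  haveI : IsSimpleGroup G := (MulEquiv.isSimpleGroup_congr e).2 inferInstance
  refine ((inferInstance : (commutator G).Normal).eq_bot_or_eq_top).resolve_left fun h => ?_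
  have hc : IsMulCommutative G := ⟨⟨fun x y => by
    have h1 : ⁅x, y⁆ ∈ commutator G := Subgroup.commutator_mem_commutator (Subgroup.mem_top x) (Subgroup.mem_top y)
    rw [h, Subgroup.mem_bot] at h1
    exact commutatorElement_eq_one_iff_mul_comm.1 h1⟩⟩
  letI : CommGroup G := { ‹Group G› with mul_comm := hc.is_comm.comm }
  have hprime := IsSimpleGroup.prime_card (α := G)
  rw [Nat.card_congr e.toEquiv] at hprime
  have hcardeq := Linear.card_PSL_two_mul (F := F)
  set q := Fintype.card F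
  set N := Nat.card (Matrix.ProjectiveSpecialLinearGroup (Fin 2) F)
  have hg : Nat.gcd 2 (q - 1) ≤ 2 := Nat.gcd_le_left _ (by norm_num)
  have hgpos : 0 < Nat.gcd 2 (q - 1) := Nat.gcd_pos_of_pos_left _ (by norm_num)
  -- `q` divides `N` up to a factor at most two, and so does `q + 1`
  have h5 : q * (q - 1) * (q + 1) ≤ 2 * N := hcardeq ▸ Nat.mul_le_mul_right N hg
  have hdq : q ∣ 2 * N := by
    have : q ∣ Nat.gcd 2 (q - 1) * N := hcardeq ▸ (dvd_mul_right q (q - 1)).mul_right (q + 1)
    exact this.trans (Nat.mul_dvd_mul_right (Nat.gcd_dvd_left 2 _) N)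
  rcases (Nat.dvd_mul.1 hdq) with ⟨y, z, hy, hz, hyz⟩
  rcases (Nat.dvd_prime Nat.prime_two).1 hy with rfl | rfl <;>
    rcases (Nat.dvd_prime hprime).1 hz with rfl | rfl
  all_goals
    have : q * 3 ≤ q * (q - 1) := Nat.mul_le_mul_left q (by omega)
    have : q * (q - 1) * 5 ≤ q * (q - 1) * (q + 1) := Nat.mul_le_mul_left _ (by omega)
    omega

end Cfsg.Agent.CsPSL
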