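import Cfsg.Agent.CsPSL.Even
import Cfsg.Agent.CsPSL.Quotient
import Cfsg.Agent.Linear.PermIso
import Cfsg.Agent.S5748
import Mathlib.FieldTheory.Finite.GaloisField

/-!
Groups with the class sizes of `PSL(2, q)`, `q` even.
-/

set_option autoImplicit false

namespace Cfsg.Agent.CsPSL

open Subgroup
open scoped Classical

variable {G : Type*} [Group G] [Finite G]

theorem main_even {F : Type*} [Field F] [Fintype F] (h2 : 2 ∣ Fintype.card F)
    (hq2 : 2 < Fintype.card F)
    (hS : Set.range (fun g : G => (cent g).index) =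
      {1, Fintype.card F * (Fintype.card F - 1), Fintype.card F ^ 2 - 1,
        Fintype.card F * (Fintype.card F + 1)}) :
    Nonempty (G ⧸ Subgroup.center G ≃* Matrix.ProjectiveSpecialLinearGroup (Fin 2) F) ∧
      ∀ z ∈ Subgroup.center G, z ∈ commutator G → z = 1 := by
  obtain ⟨⟨n, hn⟩, hp, hcard⟩ := FiniteField.card F (ringChar F)
  set q := Fintype.card F with hq
  have hp2 : ringChar F = 2 := by
    rw [hcard] at h2
    exact ((Nat.prime_dvd_prime_iff_eq Nat.prime_two hp).1 (Nat.prime_two.dvd_of_dvd_pow h2)).symm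
  have hcard2 : q = 2 ^ n := by rw [hcard, hp2]; rfl
  have hq4 : 4 ≤ q := by omega
  have hsq : q ^ 2 - 1 = (q + 1) * (q - 1) := by simpa using Nat.sq_sub_sq q 1
  have hpm : Nat.Coprime (q + 1) (q - 1) := by
    refine Nat.coprime_of_dvd fun k hk a b => ?_
    have h3 := Nat.dvd_sub a b
    rw [show q + 1 - (q - 1) = 2 by omega] at h3
    obtain rfl := (Nat.prime_dvd_prime_iff_eq hk Nat.prime_two).1 h3
    omega
  have hqp : Nat.Coprime q (q + 1) := by
    refine Nat.coprime_of_dvd fun k hk a b => hk.one_lt.ne' (Nat.dvd_one.1 ?_)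
    simpa using Nat.dvd_sub b a
  have hqm : Nat.Coprime q (q - 1) := by
    refine Nat.coprime_of_dvd fun k hk a b => hk.one_lt.ne' (Nat.dvd_one.1 ?_)
    have h3 := Nat.dvd_sub a b
    rwa [show q - (q - 1) = 1 by omega] at h3
  have hqM : Nat.Coprime q (q ^ 2 - 1) := hsq ▸ hqp.mul_right hqm
  have hlt : 1 < q ^ 2 - 1 := by rw [hsq]; nlinarith [show 3 ≤ q - 1 by omega]
  have hindex : ∀ {g : G}, g ∉ Subgroup.center G → (cent g).index = q * (q - 1) ∨
      (cent g).index = q ^ 2 - 1 ∨ (cent g).index = q * (q + 1) := fun {g} hg => by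
    have h1 : (cent g).index ∈ Set.range (fun g : G => (cent g).index) := ⟨g, rfl⟩
    rw [hS] at h1
    simp only [Set.mem_insert_iff, Set.mem_singleton_iff] at h1
    rcases h1 with e | e | e | e
    · exact absurd (mem_center_iff_cent.2 (Subgroup.index_eq_one.1 e)) hg
    exacts [Or.inl e, Or.inr (Or.inl e), Or.inr (Or.inr e)]
  have hex : ∀ {i : ℕ}, i = q * (q - 1) ∨ i = q ^ 2 - 1 ∨ i = q * (q + 1) →
      ∃ g : G, g ∉ Subgroup.center G ∧ (cent g).index = i := fun {i} hi => by
    obtain ⟨g, hg⟩ : i ∈ Set.range (fun g : G => (cent g).index) := by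
      rw [hS]
      simp only [Set.mem_insert_iff, Set.mem_singleton_iff]
      tauto
    refine ⟨g, fun hc => ?_, hg⟩
    change (cent g).index = i at hg
    rw [mem_center_iff_cent.1 hc, Subgroup.index_top] at hg
    have e1 : q * 3 ≤ q * (q - 1) := Nat.mul_le_mul_left q (by omega)
    have e2 : q * 3 ≤ q * (q + 1) := Nat.mul_le_mul_left q (by omega)
    rcases hi with rfl | rfl | rfl <;> omega
  -- no class size divides another
  have hiso : ∀ {g : G}, g ∉ Subgroup.center G → Isolated g := by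
    intro g hg
    have key : ∀ {i j : ℕ}, (i = q * (q - 1) ∨ i = q ^ 2 - 1 ∨ i = q * (q + 1)) →
        (j = q * (q - 1) ∨ j = q ^ 2 - 1 ∨ j = q * (q + 1)) → i ∣ j → i = j := by
      intro i j hi hj hd
      have n1 : ¬ q ∣ q ^ 2 - 1 := fun hc => by
        have := Nat.eq_one_of_dvd_coprimes hqM dvd_rfl hc
        omega
      have n2 : ¬ q + 1 ∣ q - 1 := fun hc => by
        have := Nat.eq_one_of_dvd_coprimes hpm dvd_rfl hc
        omega
      have n3 : ¬ q - 1 ∣ q + 1 := fun hc => by
        have := Nat.eq_one_of_dvd_coprimes hpm hc dvd_rfl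
        omega
      rcases hi with rfl | rfl | rfl <;> rcases hj with rfl | rfl | rfl
      · rfl
      · exact absurd ((dvd_mul_right q _).trans hd) n1
      · exact absurd (Nat.dvd_of_mul_dvd_mul_left (by omega) hd) n3
      · refine absurd ?_ n2
        exact hqp.symm.dvd_of_dvd_mul_left ((hsq ▸ dvd_mul_right (q + 1) (q - 1)).trans hd)
      · rfl
      · refine absurd ?_ n3
        exact hqm.symm.dvd_of_dvd_mul_left ((hsq ▸ dvd_mul_left (q - 1) (q + 1)).trans hd)
      · exact absurd (Nat.dvd_of_mul_dvd_mul_left (by omega) hd) n2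
      · exact absurd ((dvd_mul_right q _).trans hd) n1
      · rfl
    exact isolated_of_index hg (fun y hy hd => (key (hindex hg) (hindex hy) hd).symm)
      fun y hy hd => key (hindex hy) (hindex hg) hd
  -- the order modulo the centre
  obtain ⟨x₁, hx₁, e₁⟩ := hex (i := q ^ 2 - 1) (Or.inr (Or.inl rfl))
  obtain ⟨x₂, hx₂, e₂⟩ := hex (i := q * (q - 1)) (Or.inl rfl)
  obtain ⟨x₃, hx₃, e₃⟩ := hex (i := q * (q + 1)) (Or.inr (Or.inr rfl))
  have hN : Nat.card (G ⧸ Subgroup.center G) = q * (q ^ 2 - 1) := by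
    have r₁ := card_quotient_eq x₁
    have r₂ := card_quotient_eq x₂
    rw [e₁] at r₁; rw [e₂] at r₂
    set N := Nat.card (G ⧸ Subgroup.center G)
    obtain ⟨m, hm⟩ : q * (q ^ 2 - 1) ∣ N := hqM.mul_dvd_of_dvd_of_dvd
      ((dvd_mul_right q _).trans (r₂ ▸ dvd_mul_left _ _)) (r₁ ▸ dvd_mul_left _ _)
    suffices m = 1 by rw [hm, this, mul_one]
    by_contra hm1
    obtain ⟨r, hr, hrm⟩ := Nat.exists_prime_and_dvd hm1
    haveI : Fact r.Prime := ⟨hr⟩
    have f₁ : (Subgroup.center G).relIndex (cent x₁) = q * m :=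
      Nat.eq_of_mul_eq_mul_right (show 0 < q ^ 2 - 1 by omega) (by rw [r₁, hm]; ring)
    have f₂ : (Subgroup.center G).relIndex (cent x₂) = (q + 1) * m :=
      Nat.eq_of_mul_eq_mul_right (show 0 < q * (q - 1) from Nat.mul_pos (by omega) (by omega))
        (by rw [r₂, hm, hsq]; ring)
    have hw : ∃ w : G, w ∉ Subgroup.center G ∧ ¬ r ∣ (cent w).index := by
      by_contra hne
      push Not at hne
      have a₁ := hne x₁ hx₁
      have a₂ := hne x₂ hx₂
      have a₃ := hne x₃ hx₃
      rw [e₁] at a₁; rw [e₂] at a₂; rw [e₃] at a₃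
      have hrq : ¬ r ∣ q := fun hd => hr.one_lt.ne' (Nat.eq_one_of_dvd_coprimes hqM hd a₁)
      exact hr.one_lt.ne' (Nat.eq_one_of_dvd_coprimes hpm
        (((Nat.Prime.dvd_mul hr).1 a₃).resolve_left hrq)
        (((Nat.Prime.dvd_mul hr).1 a₂).resolve_left hrq))
    have hne : (cent x₁).index ≠ (cent x₂).index := by
      rw [e₁, e₂]
      intro e
      have := Nat.eq_one_of_dvd_coprimes hqM dvd_rfl (e ▸ dvd_mul_right q (q - 1))
      omega
    have hr1 : r ∣ (Subgroup.center G).relIndex (cent x₁) := f₁ ▸ hrm.mul_left q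
    have hr2 : r ∣ (Subgroup.center G).relIndex (cent x₂) := f₂ ▸ hrm.mul_left (q + 1)
    by_cases hr2' : r = 2
    · obtain ⟨s, hs, hsd⟩ := Nat.exists_prime_and_dvd (n := q + 1) (by omega)
      refine false_of_common_prime (hiso hx₂) (hiso hx₁) hne.symm hw hr2 hr1 hs ?_
        (f₂ ▸ hsd.mul_right m)
      intro e
      have : s = 2 := e.trans hr2'
      rw [this] at hsd
      omega
    · exact false_of_common_prime (hiso hx₁) (hiso hx₂) hne hw hr1 hr2 Nat.prime_two
        (Ne.symm hr2') (f₁ ▸ h2.mul_right m)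
  -- commuting modulo the centre is commuting
  have hdata : ∀ {g : G}, g ∉ Subgroup.center G → bar g = cent g ∧
      ord (QuotientGroup.mk g : G ⧸ Subgroup.center G) * (cent g).index = q * (q ^ 2 - 1) := by
    intro g hg
    have hr := card_quotient_eq g
    rw [hN] at hr
    have hb : bar g = cent g := bar_eq_cent_of_coprime g (by
      rcases hindex hg with e | e | e
      · rw [e] at hr ⊢
        rw [Nat.eq_of_mul_eq_mul_right (show 0 < q * (q - 1) from Nat.mul_pos (by omega) (by omega))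
          (hr.trans (show q * (q ^ 2 - 1) = (q + 1) * (q * (q - 1)) by rw [hsq]; ring))]
        exact hqp.mul_left hpm.symm
      · rw [e] at hr ⊢
        rw [Nat.eq_of_mul_eq_mul_right (show 0 < q ^ 2 - 1 by omega) hr]
        exact hqM.symm
      · rw [e] at hr ⊢
        rw [Nat.eq_of_mul_eq_mul_right (show 0 < q * (q + 1) from Nat.mul_pos (by omega) (by omega))
          (hr.trans (show q * (q ^ 2 - 1) = (q - 1) * (q * (q + 1)) by rw [hsq]; ring))]
        exact hqm.mul_left hpm)
    exact ⟨hb, by rw [ord_mk_eq_relIndex hb]; exact hr⟩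
  have hbar : ∀ g : G, bar g = cent g := fun g => by
    by_cases hg : g ∈ Subgroup.center G
    · refine le_antisymm ?_ (cent_le_bar g)
      rw [mem_center_iff_cent.1 hg]; exact le_top
    · exact (hdata hg).1
  have hU : UHyp (G ⧸ Subgroup.center G) 2 q (q ^ 2 - 1) := by
    refine ⟨Nat.prime_two, hN, ⟨n, hn, hcard2⟩, fun hd => ?_, fun x hx h2x => ?_⟩
    · exact absurd (Nat.eq_one_of_dvd_coprimes hqM h2 hd) (by norm_num)
    · obtain ⟨g, rfl⟩ := QuotientGroup.mk'_surjective (Subgroup.center G) x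
      have hg : g ∉ Subgroup.center G := fun hc => hx ((QuotientGroup.eq_one_iff g).2 hc)
      have h3 := (hdata hg).2
      simp only [QuotientGroup.mk'_apply] at h2x ⊢
      rcases hindex hg with e | e | e <;> rw [e] at h3
      · exfalso
        rw [Nat.eq_of_mul_eq_mul_right (show 0 < q * (q - 1) from Nat.mul_pos (by omega) (by omega))
          (h3.trans (show q * (q ^ 2 - 1) = (q + 1) * (q * (q - 1)) by rw [hsq]; ring))] at h2x
        omega
      · exact Nat.eq_of_mul_eq_mul_right (show 0 < q ^ 2 - 1 by omega) h3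
      · exfalso
        rw [Nat.eq_of_mul_eq_mul_right (show 0 < q * (q + 1) from Nat.mul_pos (by omega) (by omega))
          (h3.trans (show q * (q ^ 2 - 1) = (q - 1) * (q * (q + 1)) by rw [hsq]; ring))] at h2x
        omega
  obtain ⟨F', iF, iFF, hF', ⟨e⟩⟩ := psl_even hq4 hU
  obtain ⟨e'⟩ := Linear.psl_congr (FiniteField.ringEquivOfCardEq hF') (Fin 2)
  refine ⟨⟨e.trans e'⟩, fun z hz hz' => ?_⟩
  haveI : IsSimpleGroup (G ⧸ Subgroup.center G) := by
    haveI : IsSimpleGroup (Matrix.ProjectiveSpecialLinearGroup (Fin 2) F') :=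
      Matrix.ProjectiveSpecialLinearGroup.rank_two_simple (by
        rw [Nat.card_eq_fintype_card, hF']; omega)
    exact (MulEquiv.isSimpleGroup_congr e).2 inferInstance
  have hnc : ¬ IsMulCommutative (G ⧸ Subgroup.center G) := fun hc => by
    have h4 : ord (QuotientGroup.mk x₁ : G ⧸ Subgroup.center G) = q := by
      have h3 := (hdata hx₁).2
      rw [e₁] at h3
      exact Nat.eq_of_mul_eq_mul_right (by omega) h3
    have h5 : cent (QuotientGroup.mk x₁ : G ⧸ Subgroup.center G) = ⊤ := by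
      rw [← mem_center_iff_cent, Subgroup.mem_center_iff]
      exact fun y => hc.is_comm.comm y _
    unfold ord at h4
    rw [h5, Subgroup.card_top, hN] at h4
    have : q * 2 ≤ q * (q ^ 2 - 1) := Nat.mul_le_mul_left q (by omega)
    omega
  have hct := (S5748.result hnc).2 ⟨F', iF, iFF, n, by
    by_contra hn2
    have : n = 1 := by omega
    rw [this] at hcard2
    omega, hF'.trans hcard2, ⟨e⟩⟩
  have habel : ∀ x : G, x ∉ Subgroup.center G → z ^ (cent x).index = 1 := fun x hx => by
    set H := cent (QuotientGroup.mk x : G ⧸ Subgroup.center G) with hH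
    have hcomm : ∀ a ∈ H, ∀ b ∈ H, a * b = b * a := fun a ha b hb => by
      rcases eq_or_ne a 1 with rfl | ha1
      · simp
      rcases eq_or_ne b 1 with rfl | hb1
      · simp
      exact hct a _ b ha1 (mk_ne_one hx) hb1 (mem_cent.1 ha) (mem_cent.1 hb).symm
    have hle : Subgroup.center G ≤ H.comap (QuotientGroup.mk' (Subgroup.center G)) := fun y hy => by
      show (QuotientGroup.mk y : G ⧸ Subgroup.center G) ∈ H
      rw [(QuotientGroup.eq_one_iff y).2 hy]
      exact one_mem H
    have h6 := pow_index_eq_one hle (fun w _ hw => by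
      rw [commutator_comap_eq_bot hbar hcomm] at hw
      exact hw) hz hz'
    rwa [show H.comap (QuotientGroup.mk' (Subgroup.center G)) = cent x from hbar x] at h6
  have k₁ := orderOf_dvd_of_pow_eq_one (habel x₁ hx₁)
  have k₂ := orderOf_dvd_of_pow_eq_one (habel x₂ hx₂)
  have k₃ := orderOf_dvd_of_pow_eq_one (habel x₃ hx₃)
  rw [e₁] at k₁; rw [e₂] at k₂; rw [e₃] at k₃
  rw [← orderOf_eq_one_iff]
  have hco : Nat.Coprime (orderOf z) q := (Nat.Coprime.of_dvd_right k₁ hqM).symm
  exact Nat.eq_one_of_dvd_coprimes hpm (hco.dvd_of_dvd_mul_left k₃) (hco.dvd_of_dvd_mul_left k₂)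

end Cfsg.Agent.CsPSL
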