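import Cfsg.Agent.CsPSL.OddStruct
import Cfsg.Agent.S0731
import Cfsg.Agent.Linear.Orders
import Mathlib.Data.Fintype.CardEmbedding

/-!
Recognition of `PSL(2, q)`, `q` odd, from its centraliser orders.
-/

set_option autoImplicit false

namespace Cfsg.Agent.CsPSL.OHyp

open Subgroup
open scoped Classical

variable {X : Type*} [Group X] [Finite X] {p q D Q a K : ℕ} (h : OHyp X p q D Q a K)
include h

theorem cent_eq_sylow {P : Sylow p X} {y : X} (hy : y ≠ 1) (hyP : y ∈ (P : Subgroup X)) :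
    cent y = (P : Subgroup X) := by
  haveI : Fact p.Prime := ⟨h.u.prime⟩
  obtain ⟨S, hS⟩ := h.u.exists_sylow_eq_cent (h.u.ord_of_mem hy hyP)
  obtain ⟨z, hz⟩ := MulAction.exists_smul_eq X P S
  have hcomm := h.cent_comm_U (y := y) ⟨hy, h.u.ord_of_mem hy hyP⟩
  -- `P` is abelian, being conjugate to `cent y`
  refine h.u.cent_eq_of_le hy hyP fun w hw => mem_cent.2 ?_
  have hmem : ∀ t ∈ (P : Subgroup X), z * t * z⁻¹ ∈ cent y := fun t ht => by
    rw [← hS, ← hz, Sylow.coe_subgroup_smul, Subgroup.mem_pointwise_smul_iff_inv_smul_mem, ← map_inv,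
      MulAut.smul_def, MulAut.conj_apply, inv_inv,
      show z⁻¹ * (z * t * z⁻¹) * z = t by group]
    exact ht
  have e := hcomm _ (hmem w hw) _ (hmem y hyP)
  rw [show z * w * z⁻¹ * (z * y * z⁻¹) = z * (w * y) * z⁻¹ by group,
    show z * y * z⁻¹ * (z * w * z⁻¹) = z * (y * w) * z⁻¹ by group] at e
  exact mul_left_cancel (mul_right_cancel e)

theorem card_sylow_and_normalizer (P : Sylow p X) : Nat.card (Sylow p X) = q + 1 ∧
    q < Nat.card ↥(normalizer ((P : Subgroup X) : Set X)) := by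
  haveI : Fact p.Prime := ⟨h.u.prime⟩
  obtain ⟨kU, e, -, -, -, hU, hN, hne, hze, -⟩ := h.u.relations P
  have hz : UHyp.zSyl (P : Subgroup X) = (P : Subgroup X) := inf_eq_left.2 fun r hr =>
    Subgroup.mem_centralizer_iff.2 fun s hs => by
      by_cases hr1 : r = 1
      · simp [hr1]
      · exact mem_cent.1 (show s ∈ cent r by rw [h.cent_eq_sylow hr1 hr]; exact hs)
  have hk : kU = 2 := by
    rw [h.card_U_eq] at hU
    exact (Nat.eq_of_mul_eq_mul_left (Nat.mul_pos
      (by rcases h.cases with ⟨-, e, -⟩ | ⟨-, e, -, ha⟩ <;> omega)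
      (by have := h.hD; omega)) hU).symm
  rw [hz, h.u.card_sylow_eq P, hk] at hze
  rcases h.cases with ⟨hq, hQ, -, ha⟩ | ⟨hq, hQ, -, ha⟩
  · have he : e = 2 * a + 1 := by omega
    refine ⟨Nat.eq_of_mul_eq_mul_right (show 0 < 2 * a + 1 by omega) ?_, ?_⟩
    · rw [← he, hne, hQ, he, h.hD, hq]
    · rw [hN]; exact lt_mul_of_one_lt_right (by omega) (by omega)
  · have he : e = 2 * a := by omega
    refine ⟨Nat.eq_of_mul_eq_mul_right (show 0 < 2 * a by omega) ?_, ?_⟩
    · rw [← he, hne, hQ, he, h.hD, hq]; ring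
    · rw [hN]; exact lt_mul_of_one_lt_right (by omega) (by omega)

/-- A group with the centraliser orders of `PSL(2, q)`, `q` odd, is `PSL(2, q)`. -/
theorem psl_odd : ∃ (F : Type) (_ : Field F) (_ : Fintype F), Fintype.card F = q ∧
    Nonempty (X ≃* Matrix.ProjectiveSpecialLinearGroup (Fin 2) F) := by
  haveI : Fact p.Prime := ⟨h.u.prime⟩
  have hfix : ∀ {g : X} {P : Sylow p X}, g • P = P ↔ g ∈ normalizer ((P : Subgroup X) : Set X) :=
    fun {g P} => Sylow.smul_eq_iff_mem_normalizer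
  have hPfix : ∀ (P : Sylow p X), ∀ r ∈ (P : Subgroup X), r • P = P := fun P r hr =>
    hfix.2 (Subgroup.le_normalizer hr)
  -- a non-trivial element of a Sylow subgroup fixes only that Sylow subgroup
  have hsemi : ∀ (P R : Sylow p X), ∀ r ∈ (P : Subgroup X), r ≠ 1 → r • R = R → R = P := by
    intro P R r hr hr1 hrR
    obtain ⟨k, hk⟩ := h.u.exists_pow_orderOf hr
    have hp : IsPGroup p ↥((zpowers r) ⊔ (R : Subgroup X) : Subgroup X) :=
      IsPGroup.to_sup_of_normal_right' (IsPGroup.of_card (n := k) (by rw [Nat.card_zpowers, hk]))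
        R.2 (zpowers_le.2 (hfix.1 hrR))
    have hrR' : r ∈ (R : Subgroup X) :=
      (R.3 hp le_sup_right) ▸ (le_sup_left : zpowers r ≤ _) (mem_zpowers r)
    exact Sylow.ext ((h.cent_eq_sylow hr1 hrR').symm.trans (h.cent_eq_sylow hr1 hr))
  obtain ⟨P⟩ : Nonempty (Sylow p X) := inferInstance
  obtain ⟨hn, hNP⟩ := h.card_sylow_and_normalizer P
  have hq3 : 3 ≤ q := by rcases h.cases with ⟨e, -⟩ | ⟨e, -, -, ha⟩ <;> omega
  letI := Fintype.ofFinite (Sylow p X)
  have hcardP : ∀ S : Sylow p X, Nat.card ↥(S : Subgroup X) = q := h.u.card_sylow_eq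
  have htr : ∀ (S R T : Sylow p X), R ≠ S → T ≠ S →
      ∃! u : ↥(S : Subgroup X), (u : X) • R = T := by
    intro S R T hR hT
    let f : ↥(S : Subgroup X) → {T : Sylow p X // T ≠ S} := fun u => ⟨(u : X) • R, fun e => hR
      (MulAction.injective (u : X) (e.trans (hPfix S u u.2).symm))⟩
    have hf : Function.Injective f := by
      intro u v e
      have h1 : (u : X) • R = (v : X) • R := congrArg Subtype.val e
      by_contra hne
      refine hR (hsemi S R ((u : X)⁻¹ * v) (mul_mem (inv_mem u.2) v.2) (fun e' => hne (Subtype.ext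
        (inv_mul_eq_one.1 e'))) ?_)
      rw [mul_smul, ← h1, inv_smul_smul]
    have hb : Function.Bijective f := (Nat.bijective_iff_injective_and_card _).mpr ⟨hf, by
      have hc : Nat.card {T : Sylow p X // T ≠ S} = Nat.card (Sylow p X) - 1 := by
        rw [Nat.card_eq_fintype_card, Fintype.card_subtype_compl, Fintype.card_subtype_eq,
          ← Nat.card_eq_fintype_card]
      rw [hc, hn, hcardP S]; rfl⟩
    obtain ⟨u, hu⟩ := hb.2 ⟨T, hT⟩
    exact ⟨u, congrArg Subtype.val hu,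
      fun v hv => hf (Subtype.ext (hv.trans (congrArg Subtype.val hu).symm))⟩
  have hthree : ∀ g : X, ∀ A B C : Sylow p X, A ≠ B → B ≠ C → A ≠ C →
      g • A = A → g • B = B → g • C = C → g = 1 := by
    intro g A B C hAB hBC hAC hA hB hC
    obtain ⟨u, hu, huniq⟩ := htr A B C hAB.symm hAC.symm
    have hgu : g * u * g⁻¹ ∈ (A : Subgroup X) :=
      (Subgroup.mem_normalizer_iff.1 (hfix.1 hA) _).1 u.2
    have h1 : (⟨g * u * g⁻¹, hgu⟩ : ↥(A : Subgroup X)) = u := huniq _ (by
      show (g * u * g⁻¹) • B = C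
      rw [mul_smul, mul_smul, inv_smul_eq_iff.2 hB.symm, hu, hC])
    have h2 : g * u * g⁻¹ = (u : X) := congrArg Subtype.val h1
    have hu1 : (u : X) ≠ 1 := fun e => hBC (by
      change (u : X) • B = C at hu
      rwa [e, one_smul] at hu)
    have hgA : g ∈ (A : Subgroup X) := h.cent_eq_sylow hu1 u.2 ▸
      mem_cent.2 (mul_inv_eq_iff_eq_mul.1 h2)
    by_contra hg
    exact hAB (hsemi A B g hgA hg hB).symm
  have hex : ∀ S : Sylow p X, ∃ R : Sylow p X, R ≠ S := fun S => by
    haveI : Nontrivial (Sylow p X) := Finite.one_lt_card_iff_nontrivial.1 (by omega)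
    exact exists_ne S
  have hex3 : ∃ A B C : Sylow p X, A ≠ B ∧ B ≠ C ∧ A ≠ C :=
    let ⟨A, B, C, h1, h2, h3⟩ := (Fintype.two_lt_card_iff (α := Sylow p X)).1 (by
      rw [← Nat.card_eq_fintype_card, hn]; omega)
    ⟨A, B, C, h1, h3, h2⟩
  have h2 : MulAction.IsMultiplyPretransitive X (Sylow p X) 2 := by
    rw [MulAction.is_two_pretransitive_iff]
    obtain ⟨Q₀, hQ₀⟩ := hex P
    have htwo : ∀ {A B : Sylow p X}, A ≠ B → ∃ g : X, g • A = P ∧ g • B = Q₀ := by
      intro A B hAB
      obtain ⟨g, hg⟩ := MulAction.exists_smul_eq X A P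
      have hB : g • B ≠ P := fun e => hAB (MulAction.injective g (hg.trans e.symm))
      obtain ⟨u, hu, -⟩ := htr P (g • B) Q₀ hB hQ₀
      exact ⟨(u : X) * g, by rw [mul_smul, hg, hPfix P u u.2], by rw [mul_smul, hu]⟩
    intro A B C E' hAB hCE
    obtain ⟨g, hg1, hg2⟩ := htwo hAB
    obtain ⟨k, hk1, hk2⟩ := htwo hCE
    exact ⟨k⁻¹ * g, by rw [mul_smul, hg1, ← hk1, inv_smul_smul],
      by rw [mul_smul, hg2, ← hk2, inv_smul_smul]⟩
  have hZ : IsZassenhausGroup X (Sylow p X) := by
    refine ⟨⟨fun {g k} e => ?_⟩, h2, hthree, ?_, ?_⟩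
    · obtain ⟨A, B, C, hAB, hBC, hAC⟩ := hex3
      rw [← inv_mul_eq_one]
      exact (hthree (g⁻¹ * k) A B C hAB hBC hAC (by rw [mul_smul, ← e, inv_smul_smul])
        (by rw [mul_smul, ← e, inv_smul_smul]) (by rw [mul_smul, ← e, inv_smul_smul]))
    · obtain ⟨R, hR⟩ := hex P
      let f : ↥(normalizer ((P : Subgroup X) : Set X)) → {T : Sylow p X // T ≠ P} := fun n =>
        ⟨(n : X) • R, fun e => hR (MulAction.injective (n : X) (e.trans (hfix.2 n.2).symm))⟩
      have hni : ¬ Function.Injective f := fun hf => by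
        have h1 := Nat.card_le_card_of_injective f hf
        rw [Nat.card_eq_fintype_card (α := {T : Sylow p X // T ≠ P}), Fintype.card_subtype_compl,
          Fintype.card_subtype_eq, ← Nat.card_eq_fintype_card, hn] at h1
        omega
      simp only [Function.Injective, not_forall] at hni
      obtain ⟨m, n, e, hne⟩ := hni
      refine ⟨(n : X)⁻¹ * m, fun e' => hne (Subtype.ext (inv_mul_eq_one.1 e').symm), P, R, hR.symm,
        ?_, ?_⟩
      · exact hfix.2 (mul_mem (inv_mem n.2) m.2)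
      · rw [mul_smul, show (m : X) • R = (n : X) • R from congrArg Subtype.val e, inv_smul_smul]
    · intro N hN hNt
      by_contra hne
      push Not at hne
      have hcard : Nat.card ↥N = q + 1 := by
        have h1 := MulAction.index_stabilizer_of_transitive ↥N P
        rw [hne P, Subgroup.index_bot, hn] at h1
        exact h1
      have h2N : 2 ∣ Nat.card ↥N := by
        rw [hcard]
        rcases h.cases with ⟨e, -⟩ | ⟨e, -⟩ <;> omega
      haveI : Fact (Nat.Prime 2) := ⟨Nat.prime_two⟩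
      obtain ⟨⟨v, hvN⟩, hv⟩ := exists_prime_orderOf_dvd_card' 2 h2N
      rw [Subgroup.orderOf_mk] at hv
      have hIN : I X ⊆ (N : Set X) := fun w hw => by
        obtain ⟨x, rfl⟩ := isConj_iff.1 (h.isConj_involutions (mem_I_of_orderOf hv) hw)
        exact hN.conj_mem v hvN x
      have h1 := Set.ncard_le_ncard hIN (Set.toFinite _)
      rw [h.ncard_I, ← Nat.card_coe_set_eq] at h1
      have h4 : Nat.card ↥(N : Set X) = q + 1 := hcard
      have : q * 2 ≤ q * D := Nat.mul_le_mul_left q (by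
        rcases h.cases with ⟨-, -, -, ha⟩ | ⟨-, -, -, ha⟩ <;> · rw [h.hD]; omega)
      omega
  have hnormal : ((P : Subgroup X).subgroupOf (MulAction.stabilizer X P)).Normal := by
    rw [Sylow.stabilizer_eq_normalizer]
    exact Subgroup.normal_in_normalizer
  have hab : IsMulCommutative ↥(P : Subgroup X) := ⟨⟨fun r s => Subtype.ext (by
    by_cases hs : (s : X) = 1
    · simp [hs]
    · exact mem_cent.1 (show (r : X) ∈ cent (s : X) by rw [h.cent_eq_sylow hs s.2]; exact r.2))⟩⟩
  rcases S0731.result hZ P (P : Subgroup X) (fun r hr => hPfix P r hr) hnormal hab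
    (fun R T hR hT => htr P R T hR hT) with ⟨h3, -⟩ | ⟨F, iF, iFF, hchar, ⟨e⟩⟩
  · exfalso
    obtain ⟨A, B, C, hAB, hBC, hAC⟩ := hex3
    let t : Fin 3 ↪ Sylow p X := ⟨![A, B, C], by
      intro i j hij
      fin_cases i <;> fin_cases j <;> simp_all [eq_comm]⟩
    have hs : Function.Surjective fun g : X => g • t := fun s => h3.exists_smul_eq t s
    have h1 := Nat.card_le_card_of_surjective _ hs
    rw [Nat.card_eq_fintype_card (α := Fin 3 ↪ Sylow p X), Fintype.card_embedding_eq,
      Fintype.card_fin, ← Nat.card_eq_fintype_card, hn, h.card_eq] at h1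
    simp only [Nat.descFactorial_succ, Nat.descFactorial_zero, Nat.sub_zero, mul_one] at h1
    rcases h.cases with ⟨e, e', -, ha⟩ | ⟨e, e', -, ha⟩
    · rw [e, e', h.hD, show 4 * a + 3 + 1 - 2 = 4 * a + 2 by omega,
        show 4 * a + 3 + 1 - 1 = 4 * a + 3 by omega] at h1
      have e2 : (4 * a + 2) * ((4 * a + 3) * (4 * a + 3 + 1)) =
          2 * ((4 * a + 3) * ((4 * a + 4) * (2 * a + 1))) := by ring
      have : 0 < (4 * a + 3) * ((4 * a + 4) * (2 * a + 1)) := by positivity
      omega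
    · rw [e, e', h.hD, show 4 * a + 1 + 1 - 2 = 4 * a by omega,
        show 4 * a + 1 + 1 - 1 = 4 * a + 1 by omega] at h1
      have e2 : 4 * a * ((4 * a + 1) * (4 * a + 1 + 1)) =
          2 * ((4 * a + 1) * (4 * a * (2 * a + 1))) := by ring
      have : 0 < (4 * a + 1) * (4 * a * (2 * a + 1)) := by positivity
      omega
  · refine ⟨F, iF, iFF, ?_, ⟨e⟩⟩
    have hodd : Odd (Fintype.card F) := Nat.odd_iff.2 (by
      have := FiniteField.odd_card_of_char_ne_two hchar; omega)
    have h1 := Linear.card_PSL_two_mul (F := F)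
    rw [Linear.gcd_two_of_odd hodd, ← Nat.card_congr e.toEquiv, h.card_eq] at h1
    set n := Fintype.card F with hn'
    obtain ⟨m, hm⟩ : ∃ m, n = m + 1 := ⟨n - 1, by
      have : 1 < n := Fintype.one_lt_card
      omega⟩
    have hn3 : n ^ 3 = 2 * (q * (Q * D)) + n := by
      rw [h1, hm, Nat.add_sub_cancel]; ring
    have hq2 : q ^ 3 = 2 * (q * (Q * D)) + q := by
      calc q ^ 3 = q * q ^ 2 := by ring
        _ = _ := by rw [← h.sq_q]; ring
    rcases lt_trichotomy n q with hlt | heq | hgt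
    · obtain ⟨d, hd⟩ : ∃ d, q = n + d + 1 := ⟨q - n - 1, by omega⟩
      have h9 : n ^ 3 + 3 * (n * n) * (d + 1) ≤ q ^ 3 := by rw [hd]; ring_nf; omega
      have h10 : 2 * (d + 1) ≤ 3 * (n * n) * (d + 1) := Nat.mul_le_mul_right _ (by
        have : 0 < n * n := Nat.mul_pos (by omega) (by omega)
        omega)
      omega
    · exact heq
    · obtain ⟨d, hd⟩ : ∃ d, n = q + d + 1 := ⟨n - q - 1, by omega⟩
      have h9 : q ^ 3 + 3 * (q * q) * (d + 1) ≤ n ^ 3 := by rw [hd]; ring_nf; omega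
      have h10 : 2 * (d + 1) ≤ 3 * (q * q) * (d + 1) := Nat.mul_le_mul_right _ (by
        have : 0 < q * q := Nat.mul_pos (by omega) (by omega)
        omega)
      omega

end Cfsg.Agent.CsPSL.OHyp
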