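import Cfsg.Agent.CsPSL.OddInv
import Cfsg.Agent.S3282
import Mathlib.GroupTheory.FixedPointFree

/-!
The centraliser of an involution in groups with the centraliser orders of `PSL(2, q)`, `q` odd.
-/

set_option autoImplicit false

namespace Cfsg.Agent.CsPSL.OHyp

open Subgroup
open scoped Classical

variable {X : Type*} [Group X] [Finite X] {p q D Q a K : ℕ} (h : OHyp X p q D Q a K)
include h

theorem exists_W_diff_I : ∃ g : X, g ∈ W X \ I X := by
  have hK : 2 ≤ K := by rcases h.cases with ⟨-, -, e, ha⟩ | ⟨-, -, e, ha⟩ <;> omega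
  have : 0 < (W X \ I X).ncard := by
    rw [h.ncard_W_diff_I]
    exact Nat.mul_pos (Nat.mul_pos (by have := h.u.one_lt_q; omega) (by have := h.hD; omega))
      (by omega)
  exact (Set.ncard_pos (Set.toFinite _)).1 this

/-- If `q ≡ 3 (mod 4)` no `p`-element is inverted by an involution. -/
theorem not_inverted (hq : q = 4 * a + 3) {g : X} (hg : g ∈ UHyp.U q X) {x : X} (hx : x ∈ I X)
    (hxg : x ∈ inverters g) : False := by
  haveI : Fact p.Prime := ⟨h.u.prime⟩
  obtain ⟨P, hP⟩ := h.u.exists_sylow_eq_cent hg.2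
  have hmap : (P : Subgroup X).map (MulAut.conj x).toMonoidHom = (P : Subgroup X) := by
    rw [hP, ← cent_conj, show x * g * x⁻¹ = g⁻¹ from hxg]
    refine le_antisymm (cent_le_of_mem_zpowers ?_) (cent_le_of_mem_zpowers ?_)
    · exact ⟨-1, by simp⟩
    · exact ⟨-1, by simp⟩
  have hmem : ∀ r ∈ (P : Subgroup X), x * r * x⁻¹ ∈ (P : Subgroup X) := by
    intro r hr
    have h1 : x * r * x⁻¹ ∈ (P : Subgroup X).map (MulAut.conj x).toMonoidHom := ⟨r, hr, rfl⟩
    rwa [hmap] at h1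
  let φ : ↥(P : Subgroup X) →* ↥(P : Subgroup X) :=
    { toFun := fun r => ⟨x * r * x⁻¹, hmem r r.2⟩
      map_one' := Subtype.ext (by simp)
      map_mul' := fun r s => Subtype.ext (by simp [mul_assoc]) }
  have hφ : MonoidHom.FixedPointFree φ := by
    intro r hr
    by_contra hne
    have hr' : x * r * x⁻¹ = (r : X) := congrArg Subtype.val hr
    have hxc : x ∈ cent (r : X) := mem_cent.2 (mul_inv_eq_iff_eq_mul.1 hr')
    have hr1 : (r : X) ≠ 1 := fun e => hne (Subtype.ext e)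
    have h2 := Subgroup.orderOf_dvd_natCard _ hxc
    rw [show Nat.card ↥(cent (r : X)) = q from h.u.ord_of_mem hr1 r.2,
      show orderOf x = 2 from orderOf_eq_prime (by rw [pow_two]; exact hx.2) hx.1] at h2
    omega
  have h2 : Function.Involutive φ := fun r => Subtype.ext (by
    show x * (x * r * x⁻¹) * x⁻¹ = r
    rw [show x * (x * r * x⁻¹) * x⁻¹ = (x * x) * r * (x * x)⁻¹ by group, hx.2]; group)
  have hinv := hφ.coe_eq_inv_of_involutive h2
  have hcomm : ∀ r s : ↥(P : Subgroup X), r * s = s * r := fun r s => by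
    have e1 : φ (r * s) = (r * s)⁻¹ := congrFun hinv (r * s)
    rw [map_mul, congrFun hinv r, congrFun hinv s, mul_inv_rev] at e1
    have e2 := congrArg (fun z => z⁻¹) e1
    simp only [mul_inv_rev, inv_inv] at e2
    exact e2.symm
  have hz : UHyp.zSyl (P : Subgroup X) = (P : Subgroup X) := inf_eq_left.2 fun r hr =>
    Subgroup.mem_centralizer_iff.2 fun s hs => congrArg Subtype.val (hcomm ⟨s, hs⟩ ⟨r, hr⟩)
  obtain ⟨kU, e, -, -, -, hU, hN, -, hze, -⟩ := h.u.relations P
  have hk : kU = 2 := by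
    rw [h.card_U_eq] at hU
    exact (Nat.eq_of_mul_eq_mul_left (Nat.mul_pos (by rcases h.cases with ⟨-, e, -⟩ | ⟨-, e, -, ha⟩ <;> omega)
      (by have := h.hD; omega)) hU).symm
  rw [hz, h.u.card_sylow_eq P, hk] at hze
  have hxN : x ∈ normalizer ((P : Subgroup X) : Set X) := by
    rw [Subgroup.mem_normalizer_iff]
    intro r
    refine ⟨hmem r, fun hr => ?_⟩
    have := hmem _ hr
    rwa [show x * (x * r * x⁻¹) * x⁻¹ = (x * x) * r * (x * x)⁻¹ by group, hx.2, one_mul, inv_one,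
      mul_one] at this
  have h3 := Subgroup.orderOf_dvd_natCard _ hxN
  rw [hN, show orderOf x = 2 from orderOf_eq_prime (by rw [pow_two]; exact hx.2) hx.1,
    show e = 2 * a + 1 by omega, hq] at h3
  have : Odd ((4 * a + 3) * (2 * a + 1)) := Odd.mul ⟨2 * a + 1, by omega⟩ ⟨a, rfl⟩
  exact Nat.two_dvd_ne_zero.2 (Nat.odd_iff.1 this) h3

/-- The count of pairs of involutions is exact. -/
theorem others_eq {u : X} (hu : u ∈ I X) :
    (others u).ncard = Q / 2 ∧ ∀ g ∈ W X \ I X, 2 * ord g = Q := by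
  have hkey : ∃ c : ℕ, (∀ g ∈ UHyp.U q X, (invPairs g).ncard ≤ c) ∧
      q * D * (1 + Q / 2 + Q * a + (K - 1) * (Q / 2)) + 2 * (Q * D) * c = q * D * (q * D) := by
    rcases h.cases with ⟨hq, hQ, hK, -⟩ | ⟨hq, hQ, hK, ha⟩
    · refine ⟨0, fun g hg => ?_, ?_⟩
      · rw [Nat.le_zero, Set.ncard_eq_zero (Set.toFinite _), Set.eq_empty_iff_forall_notMem]
        exact fun x hx => h.not_inverted hq hg hx.1 (mem_inverters_of_involutions hx.1 hx.2)
      · rw [show K - 1 = 2 * a by omega, show Q / 2 = 2 * a + 2 by omega, hq, hQ, h.hD]; ring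
    · refine ⟨q, fun g hg => (ncard_invPairs_le_ord g).trans hg.2.le, ?_⟩
      obtain ⟨b, rfl⟩ : ∃ b, a = b + 1 := ⟨a - 1, by omega⟩
      rw [show K - 1 = 2 * b by omega, show Q / 2 = 2 * b + 2 by omega, hq, hQ, h.hD]; ring
  obtain ⟨c, hc, hkey⟩ := hkey
  have hle : (others u).ncard ≤ Q / 2 := by
    have := h.others_add_le hu
    rcases h.cases with ⟨-, e2, e3, -⟩ | ⟨-, e2, e3, -⟩ <;> omega
  have hQ2 : 2 ≤ Q / 2 := by rcases h.cases with ⟨-, e2, -, ha⟩ | ⟨-, e2, -, ha⟩ <;> omega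
  have hmono : q * D * (1 + (others u).ncard + Q * a + (K - 1) * (Q / 2)) ≤
      q * D * (1 + Q / 2 + Q * a + (K - 1) * (Q / 2)) := Nat.mul_le_mul_left _ (by omega)
  refine ⟨?_, fun g hg => ?_⟩
  · obtain ⟨g, hg⟩ := h.exists_W_diff_I
    have := h.pair_bound hu hc g hg
    have e' : q * D * (1 + Q / 2 + Q * a + (K - 1) * (Q / 2)) ≤
        q * D * (1 + (others u).ncard + Q * a + (K - 1) * (Q / 2)) := by omega
    have e := Nat.le_of_mul_le_mul_left e'
      (Nat.mul_pos (by have := h.u.one_lt_q; omega) (by have := h.hD; omega))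
    omega
  · have := h.pair_bound hu hc g hg
    by_contra hne
    rw [if_pos ((h.ord_cases_of_even hg.1).resolve_right hne)] at this
    omega

theorem inv_eq_one {g : X} (hg : g ∈ W X \ I X) {v w : X} (hv : v ∈ I X) (hvg : v ∈ cent g)
    (hw : w ∈ I X) (hwg : w ∈ cent g) : v = w := by
  have h1 := h.cover_eq hv
  rw [(h.others_eq hv).1] at h1
  have h2 : ∑ y ∈ (Set.toFinite (W X \ I X)).toFinset, (I X ∩ (cent y : Set X)).ncard =
      ∑ y ∈ (Set.toFinite (W X \ I X)).toFinset, 1 := by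
    rw [← Finset.card_eq_sum_ones, ← Set.ncard_eq_toFinset_card, h.ncard_W_diff_I]
    have hQ : q * D * (Q - 1) = q * D * (Q / 2 + 1) + q * D * (K - 1) := by
      rw [← mul_add]; congr 1
      rcases h.cases with ⟨-, e2, e3, ha⟩ | ⟨-, e2, e3, ha⟩ <;> omega
    omega
  have h3 := (Finset.sum_eq_sum_iff_of_le fun y hy =>
    h.one_le_inv ((Set.Finite.mem_toFinset _).1 hy).1).1 h2.symm g
    ((Set.Finite.mem_toFinset _).2 hg)
  exact (Set.ncard_le_one_iff (Set.toFinite _)).1 h3.ge ⟨hv, hvg⟩ ⟨hw, hwg⟩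

/-- The centraliser of a non-involution commuting with the involution `u`. -/
theorem coe_cent_eq {u g : X} (hu : u ∈ I X) (hg : g ∈ W X \ I X) (hgu : u ∈ cent g) :
    (cent g : Set X) = (cent u : Set X) \ others u := by
  have hle : cent g ≤ cent u := fun x hx => by
    have e : x * g * x⁻¹ = g := by rw [mem_cent.1 hx, mul_inv_cancel_right]
    have h1 := conj_mem_cent (x := x) hgu
    rw [e] at h1
    exact mem_cent.2 (mul_inv_eq_iff_eq_mul.1 (h.inv_eq_one hg (h.I_conj hu x) h1 hu hgu))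
  have hsub : (cent g : Set X) ⊆ (cent u : Set X) \ others u := fun x hx =>
    ⟨hle hx, fun ho => ho.2.1 (h.inv_eq_one hg ho.1 hx hu hgu)⟩
  refine Set.eq_of_subset_of_ncard_le hsub ?_ (Set.toFinite _)
  rw [Set.ncard_sdiff (fun v hv => hv.2.2) (Set.toFinite _), ← Nat.card_coe_set_eq,
    ← Nat.card_coe_set_eq (cent g : Set X), (h.others_eq hu).1]
  have e1 : Nat.card ↥(cent u) = Q := h.ord_involution hu
  have e2 : 2 * Nat.card ↥(cent g) = Q := (h.others_eq hu).2 g hg
  show Nat.card ↥(cent u) - Q / 2 ≤ Nat.card ↥(cent g)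
  omega

/-- The abelian subgroup of index two in the centraliser of an involution. -/
theorem exists_A {u : X} (hu : u ∈ I X) : ∃ A : Subgroup X, A ≤ cent u ∧ u ∈ A ∧
    2 * Nat.card ↥A = Q ∧ (∀ x ∈ A, ∀ y ∈ A, x * y = y * x) ∧
    (∀ y ∈ A, y ≠ 1 → y ≠ u → y ∉ I X ∧ cent y = A) ∧
    (∀ s ∈ cent u, s ∉ A → s ∈ I X ∧ ∀ x ∈ A, s * x * s⁻¹ = x⁻¹) := by
  have hQ2 : 3 ≤ Q / 2 := by rcases h.cases with ⟨-, e2, -, ha⟩ | ⟨-, e2, -, ha⟩ <;> omega
  obtain ⟨g, hg, hgu⟩ : ∃ g, g ∈ W X \ I X ∧ u ∈ cent g := by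
    by_contra hne
    have hsub : (cent u : Set X) ⊆ ({1, u} : Set X) ∪ others u := by
      intro g hg
      by_contra hg'
      simp only [Set.mem_union, Set.mem_insert_iff, Set.mem_singleton_iff, others,
        Set.mem_setOf_eq, not_or] at hg'
      obtain ⟨⟨hg1, hgu⟩, hgo⟩ := hg'
      exact hne ⟨g, ⟨h.mem_W_of_commute_involution hg1 hu (mem_cent_symm hg),
        fun hI => hgo ⟨hI, hgu, hg⟩⟩, mem_cent_symm hg⟩
    have h1 := (Set.ncard_le_ncard hsub (Set.toFinite _)).trans (Set.ncard_union_le _ _)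
    rw [← Nat.card_coe_set_eq, (h.others_eq hu).1] at h1
    have h2 : Nat.card ↥(cent u) = Q := h.ord_involution hu
    have h3 : ({1, u} : Set X).ncard ≤ 2 := (Set.ncard_insert_le _ _).trans (by simp)
    have h4 : Nat.card ↥(cent u : Set X) = Q := h2
    omega
  have hA := h.coe_cent_eq hu hg hgu
  have hnI : ∀ y ∈ cent g, y ≠ u → y ∉ I X := fun y hy hyu hI =>
    hyu (h.inv_eq_one hg hI hy hu hgu)
  have hle : cent g ≤ cent u := fun x hx => (hA.subset hx).1
  have hcy : ∀ y ∈ cent g, y ≠ 1 → y ≠ u → cent y = cent g := fun y hy hy1 hyu => by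
    have hyW : y ∈ W X \ I X :=
      ⟨h.mem_W_of_commute_involution hy1 hu (mem_cent_symm (hle hy)), hnI y hy hyu⟩
    exact SetLike.coe_injective ((h.coe_cent_eq hu hyW (mem_cent_symm (hle hy))).trans hA.symm)
  refine ⟨cent g, hle, hgu, (h.others_eq hu).2 g hg, fun x hx y hy => ?_,
    fun y hy hy1 hyu => ⟨hnI y hy hyu, hcy y hy hy1 hyu⟩, fun s hs hsA => ?_⟩
  · rcases eq_or_ne y 1 with rfl | hy1
    · simp
    rcases eq_or_ne y u with rfl | hyu
    · exact mem_cent.1 (hle hx)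
    · exact mem_cent.1 ((hcy y hy hy1 hyu).symm ▸ hx : x ∈ cent y)
  · have hmem : ∀ t ∈ cent u, t ∉ cent g → t ∈ others u := fun t ht htA => by
      by_contra hno
      exact htA (hA.symm.subset ⟨ht, hno⟩)
    have hsI := (hmem s hs hsA).1
    refine ⟨hsI, fun x hx => ?_⟩
    have h1 := (hmem (s * x) (mul_mem hs (hle hx)) fun hc => hsA (by
      simpa using mul_mem hc (inv_mem hx))).1
    exact mem_inverters_of_involutions hsI h1

/-- The centralisers of `p`-elements are abelian. -/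
theorem cent_comm_U {y : X} (hy : y ∈ UHyp.U q X) :
    ∀ x ∈ cent y, ∀ z ∈ cent y, x * z = z * x := by
  haveI : Fact p.Prime := ⟨h.u.prime⟩
  obtain ⟨u, hu⟩ := h.exists_involution
  obtain ⟨A, hAu, huA, hAc, hAab, hAcent, hAout⟩ := h.exists_A hu
  obtain ⟨s, hsu, hsA⟩ : ∃ s ∈ cent u, s ∉ A := by
    by_contra hne
    push Not at hne
    have h1 := Subgroup.card_le_of_le (show cent u ≤ A from hne)
    have h2 : Nat.card ↥(cent u) = Q := h.ord_involution hu
    have : 0 < Q := by rcases h.cases with ⟨-, e2, -⟩ | ⟨-, e2, -, ha⟩ <;> omega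
    omega
  obtain ⟨hsI, hsinv⟩ := hAout s hsu hsA
  have ho : ∀ {z : X}, z ∈ I X → orderOf z = 2 := fun hz =>
    orderOf_eq_prime (by rw [pow_two]; exact hz.2) hz.1
  have hH : A ⊔ zpowers s = cent u := by
    refine le_antisymm (sup_le hAu (zpowers_le.2 hsu)) fun t ht => ?_
    by_cases htA : t ∈ A
    · exact Subgroup.mem_sup_left htA
    · have hts : t * s ∈ A := by
        by_contra hc
        have e1 := (hAout (t * s) (mul_mem ht hsu) hc).2
        obtain ⟨g, hg1, hgu, hgA⟩ : ∃ g, g ≠ 1 ∧ g ≠ u ∧ g ∈ A := by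
          by_contra hne
          push Not at hne
          have hsub : (A : Set X) ⊆ {1, u} := fun g hg => by
            by_cases e : g = 1
            · exact Or.inl e
            · refine Or.inr ?_
              by_contra e'
              exact hne g e e' hg
          have h1 := Set.ncard_le_ncard hsub (Set.toFinite _)
          rw [← Nat.card_coe_set_eq] at h1
          have h3 : ({1, u} : Set X).ncard ≤ 2 := (Set.ncard_insert_le _ _).trans (by simp)
          have h4 : Nat.card ↥(A : Set X) = Nat.card ↥A := rfl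
          rcases h.cases with ⟨-, e2, -, ha⟩ | ⟨-, e2, -, ha⟩ <;> omega
        have e2 := (hAout t ht htA).2 g⁻¹ (inv_mem hgA)
        have e3 := e1 g hgA
        rw [show t * s * g * (t * s)⁻¹ = t * (s * g * s⁻¹) * t⁻¹ by group, hsinv g hgA, e2,
          inv_inv] at e3
        exact (hAcent g hgA hg1 hgu).1 ⟨hg1, mul_eq_one_iff_eq_inv.2 e3⟩
      have := mul_mem (Subgroup.mem_sup_left (T := zpowers s) hts)
        (Subgroup.mem_sup_right (S := A) (inv_mem (mem_zpowers s)))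
      simpa using this
  have hfix : A ⊓ cent s = zpowers u := by
    refine le_antisymm ?_ (zpowers_le.2 ⟨huA, mem_cent_symm hsu⟩)
    rintro x ⟨hxA, hxs⟩
    have e1 := hsinv x hxA
    rw [show s * x = x * s from (mem_cent.1 hxs).symm, mul_inv_cancel_right] at e1
    by_cases hx1 : x = 1
    · rw [hx1]; exact one_mem _
    by_cases hxu : x = u
    · rw [hxu]; exact mem_zpowers u
    exact absurd ⟨hx1, mul_eq_one_iff_eq_inv.2 e1⟩ (hAcent x hxA hx1 hxu).1
  have hTI : ∀ g : X, g ∉ cent u → A ⊓ A.map (MulAut.conj g).toMonoidHom = ⊥ := by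
    intro g hg
    rw [Subgroup.eq_bot_iff_forall]
    rintro y ⟨hyA, x, hxA, rfl⟩
    by_contra hy1
    change g * x * g⁻¹ ∈ A at hyA
    change g * x * g⁻¹ ≠ 1 at hy1
    have hx1 : x ≠ 1 := fun e => hy1 (by rw [e]; group)
    apply hg
    by_cases hxu : x = u
    · subst hxu
      by_cases e : g * x * g⁻¹ = x
      · exact mem_cent.2 (mul_inv_eq_iff_eq_mul.1 e)
      · exact absurd (h.I_conj hu g) (hAcent _ hyA hy1 e).1
    · have hyu : g * x * g⁻¹ ≠ u := fun e => (hAcent x hxA hx1 hxu).1 (by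
        have := h.I_conj hu g⁻¹
        rwa [← e, show g⁻¹ * (g * x * g⁻¹) * g⁻¹⁻¹ = x by group] at this)
      have e1 : (A.map (MulAut.conj g).toMonoidHom) = A := by
        conv_lhs => rw [← (hAcent x hxA hx1 hxu).2, ← cent_conj]
        exact (hAcent _ hyA hy1 hyu).2
      have h1 : g * u * g⁻¹ ∈ A := by
        have : g * u * g⁻¹ ∈ A.map (MulAut.conj g).toMonoidHom := ⟨u, huA, rfl⟩
        rwa [e1] at this
      by_contra hgc
      exact (hAcent _ h1 (fun e => hu.1 (conj_eq_one_iff.1 e))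
        fun e => hgc (mem_cent.2 (mul_inv_eq_iff_eq_mul.1 e))).1 (h.I_conj hu g)
  obtain ⟨P, -, hcard, hPc, -⟩ := S3282.result u (ho hu) A ⟨⟨fun x z => Subtype.ext
    (hAab x x.2 z z.2)⟩⟩ hAu huA s (ho hsI) hsu hsA hH hfix hsinv hTI fun x z hx hz =>
      h.isConj_involutions (mem_I_of_orderOf hx) (mem_I_of_orderOf hz)
  have hPq : Nat.card ↥P = q := by
    rw [h.card_eq] at hcard
    set n := Nat.card ↥P with hn
    have hq2 : 2 * (q * (Q * D)) + q = q ^ 3 := by
      calc 2 * (q * (Q * D)) + q = q * (2 * (Q * D) + 1) := by ring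
        _ = q ^ 3 := by rw [h.sq_q]; ring
    obtain ⟨m, hm⟩ : ∃ m, n = m + 1 := ⟨n - 1, by have : 0 < n := Nat.card_pos; omega⟩
    have hn3 : n ^ 3 = n * (n + 1) * (n - 1) + n := by
      rw [hm, Nat.add_sub_cancel]; ring
    rw [← hcard] at hn3
    rcases lt_trichotomy n q with hlt | heq | hgt
    · have := h.u.one_lt_q
      obtain ⟨d, hd⟩ : ∃ d, q = n + d + 1 := ⟨q - n - 1, by omega⟩
      have h9 : n ^ 3 + 3 * (n * n) * (d + 1) ≤ q ^ 3 := by rw [hd]; ring_nf; omega
      have h10 : 2 * (d + 1) ≤ 3 * (n * n) * (d + 1) := Nat.mul_le_mul_right _ (by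
        have : 0 < n * n := Nat.mul_pos (by omega) (by omega)
        omega)
      omega
    · exact heq
    · obtain ⟨d, hd⟩ : ∃ d, n = q + d + 1 := ⟨n - q - 1, by omega⟩
      have := h.u.one_lt_q
      have h9 : q ^ 3 + 3 * (q * q) * (d + 1) ≤ n ^ 3 := by rw [hd]; ring_nf; omega
      have h10 : 2 * (d + 1) ≤ 3 * (q * q) * (d + 1) := Nat.mul_le_mul_right _ (by
        have : 0 < q * q := Nat.mul_pos (by omega) (by omega)
        omega)
      omega
  obtain ⟨S, hS⟩ := h.u.exists_sylow_eq_cent hy.2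
  obtain ⟨i, -, hi⟩ := h.u.qpow
  obtain ⟨T, hT⟩ := (IsPGroup.of_card (n := i) (hPq.trans hi) : IsPGroup p ↥P).exists_le_sylow
  have hTP : P = (T : Subgroup X) :=
    eq_of_le_of_card_ge hT (by rw [h.u.card_sylow_eq T, hPq])
  obtain ⟨z, hz⟩ := MulAction.exists_smul_eq X S T
  intro x hx w hw
  have hmem : ∀ t ∈ cent y, z * t * z⁻¹ ∈ P := fun t ht => by
    rw [hTP, ← hz, Sylow.coe_subgroup_smul, Subgroup.mem_pointwise_smul_iff_inv_smul_mem, ← map_inv,
      MulAut.smul_def, MulAut.conj_apply, inv_inv,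
      show z⁻¹ * (z * t * z⁻¹) * z = t by group, hS]
    exact ht
  by_cases hx1 : x = 1
  · simp [hx1]
  have := hPc _ (hmem x hx) (fun e => hx1 (conj_eq_one_iff.1 e))
  have hwx : z * w * z⁻¹ ∈ cent (z * x * z⁻¹) := by
    show z * w * z⁻¹ ∈ Subgroup.centralizer ({z * x * z⁻¹} : Set X)
    rw [this]; exact hmem w hw
  have e := mem_cent.1 hwx
  rw [show z * w * z⁻¹ * (z * x * z⁻¹) = z * (w * x) * z⁻¹ by group,
    show z * x * z⁻¹ * (z * w * z⁻¹) = z * (x * w) * z⁻¹ by group] at e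
  exact (mul_left_cancel (mul_right_cancel e)).symm

end Cfsg.Agent.CsPSL.OHyp
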